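import Groth.Agent.CurvesA.EtFieldTors
import Groth.Agent.Etcore.HC

/-!
# Classes which die on an étale scheme are killed by the classes living on it

`comp_eq_zero`: `j : U ⟶ X` étale, `y ∈ H^n(X, F)` with `y|_U = 0`, `e ∈ Ext^m(ℤ_V, ℤ)` with `V` étale over `U`: `e y = 0`.
-/

set_option autoImplicit false
universe u
open CategoryTheory CategoryTheory.Limits AlgebraicGeometry Opposite Abelian
open scoped Groth.Agent.Etcore.EtInst
open Groth.Agent.Etcore.EtInst

namespace Groth.Agent.Dix.K109.AdjKill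

open Groth.Agent.Etcore Groth.Agent.Etcore.HpullCalc Groth.Agent.Etcore.ExtAdj
open Groth.Agent.CurvesA.SiteZU Groth.Agent.CurvesA.PushAcyclic Groth.Agent.Sga4h.EtaleRes
open Groth.Agent.CurvesA Groth.Agent.CurvesA.AcycEtale

attribute [local instance] Groth.Agent.S0101.result

universe w w' v v' u₁ u'

section Abs

variable {C : Type u₁} [Category.{v} C] [Abelian C] {D : Type u'} [Category.{v'} D] [Abelian D]
  {L : C ⥤ D} {R : D ⥤ C} (adj : L ⊣ R) [L.Additive] [R.Additive] [PreservesFiniteLimits L]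
  [PreservesFiniteColimits L] [PreservesFiniteLimits R] [PreservesFiniteColimits R]
  [HasExt.{w} C] [HasExt.{w'} D]

include adj in
theorem comp_eq_zero_abs [EnoughInjectives D] (A : C) {B F : D} {m n k : ℕ} (e : Ext.{w'} (L.obj A) B m)
    (y : Ext.{w'} B F n) (hy : (y.mapExactFunctor R : Ext.{w} (R.obj B) (R.obj F) n) = 0) (h : m + n = k) :
    e.comp y h = 0 := by
  have h1 := extAdjInv_extAdjTo (C := C) adj A F k (e.comp y h)
  have h2 : extAdjTo adj A F k (e.comp y h) = 0 := by
    change (Ext.mk₀ _).comp ((e.comp y h).mapExactFunctor R) (zero_add k) = 0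
    rw [Ext.mapExactFunctor_comp, hy, Ext.comp_zero, Ext.comp_zero]
  rw [← h1, h2, map_zero]

end Abs

variable {U X : Scheme.{u}} (j : U ⟶ X) [Etale j]

/-- `y|_U = 0` in terms of `restrAlong`. -/
theorem mapExact_restr_eq_zero [EtShriek.JCont j]
    [PreservesFiniteLimits (EtShriek.restrAlong j)] [PreservesFiniteColimits (EtShriek.restrAlong j)]
    {F : EtCoh.Ab X} {n : ℕ} (y : HH X F n) (hy : hp j F n y = 0) :
    (y.mapExactFunctor (EtShriek.restrAlong j) :
      Ext.{u + 1} ((EtShriek.restrAlong j).obj (EtCoh.const X ℤ)) ((EtShriek.restrAlong j).obj F) n) = 0 := by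
  have h1 : (y.mapExactFunctor (EtCoh.pull j) :
      Ext.{u + 1} ((EtCoh.pull j).obj (EtCoh.const X ℤ)) ((EtCoh.pull j).obj F) n) = 0 := by
    rw [hp_apply] at hy
    have h2 := congrArg (fun z => (Ext.mk₀ (EtCore.pullConst j ℤ).hom).comp z (zero_add n)) hy
    beta_reduce at h2
    rwa [Ext.mk₀_comp_mk₀_assoc, Iso.hom_inv_id, Ext.mk₀_id_comp, Ext.comp_zero] at h2
  have h3 := mapExactFunctor_nat (pullIsoRestr j).hom y
  rw [h1, Ext.zero_comp] at h3
  have h4 := congrArg (fun z => (Ext.mk₀ ((pullIsoRestr j).inv.app (EtCoh.const X ℤ))).comp z (zero_add n)) h3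
  beta_reduce at h4
  rw [Ext.mk₀_comp_mk₀_assoc, ← NatTrans.comp_app, Iso.inv_hom_id, NatTrans.id_app, Ext.mk₀_id_comp,
    Ext.comp_zero] at h4
  exact h4.symm

/-- **Classes which die on an étale scheme are killed by the classes living on it.** -/
theorem comp_eq_zero (V : U.Etale) (W : X.Etale) (i : (EtShriek.compEtale j).obj V ≅ W) {F : EtCoh.Ab X} {n : ℕ}
    (y : HH X F n) (hy : hp j F n y = 0) {m k : ℕ} (h : m + n = k)
    (e : Ext.{u + 1} ((Z X).obj W) (EtCoh.const X ℤ) m) : e.comp y h = 0 := by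
  have hj : EtShriek.JCont j := jCont j
  have i1 := Groth.Agent.S0648.result j
  have i2 : (EtShriek.extZero j).Additive := (EtShriek.extZeroAdj j).left_adjoint_additive
  have i3 : PreservesColimitsOfSize.{0, 0} (EtShriek.extZero j) :=
    (EtShriek.extZeroAdj j).leftAdjoint_preservesColimits
  have i4 : PreservesFiniteColimits (EtShriek.extZero j) :=
    PreservesColimitsOfSize.preservesFiniteColimits.{0, 0} _
  have i5 := Groth.Agent.Sga4h.EtaleRes2.preservesFiniteLimits_restrAlong j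
  have i6 := Groth.Agent.Sga4h.EtaleRes2.preservesFiniteColimits_restrAlong j
  let f := (extZeroZ j V).trans ((Z X).mapIso i)
  have h1 := comp_eq_zero_abs (EtShriek.extZeroAdj j) ((Z U).obj V) ((Ext.mk₀ f.hom).comp e (zero_add m)) y
    (mapExact_restr_eq_zero j y hy) h
  have h3 : (Ext.mk₀ f.hom).comp (e.comp y h) (zero_add k) = 0 := by
    rw [← h1]
    exact (Ext.comp_assoc (Ext.mk₀ f.hom) e y (zero_add m) h (by omega)).symm
  have h2 := congrArg (fun z => (Ext.mk₀ f.inv).comp z (zero_add k)) h3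
  beta_reduce at h2
  rwa [Ext.comp_zero, Ext.mk₀_comp_mk₀_assoc, Iso.inv_hom_id, Ext.mk₀_id_comp] at h2

end Groth.Agent.Dix.K109.AdjKill
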