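import Groth.Agent.Dix.K282.BrLift
import Groth.Agent.Dix.K282.PMap
import Groth.Agent.Etcore.FieldDesc621
import Groth.Agent.Sga5.H855.EtUnit

/-!
# Base change of `f_* G_m` along algebraic extensions of the ground field

* `eH_cP`: compatibility of the edge maps with base change;
* `isIso_cP`: `t⁻¹ f_* G_m ≅ f'_* G_m` for `t : Spec E ⟶ Spec k`, `E/k` algebraic separable;
* `hp_eq_zero`: if `x ∈ H^n(k, f_* G_m)` dies in `H^n(X, G_m)` and the edge map is injective over `E` then `x|_E = 0`.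
-/

set_option autoImplicit false
universe u
open CategoryTheory CategoryTheory.Limits AlgebraicGeometry Opposite Abelian
open scoped Groth.Agent.Etcore.EtInst
open Groth.Agent.Etcore.EtInst

namespace Groth.Agent.Dix.K109.BaseCh

open Groth.Agent.Etcore Groth.Agent.Etcore.HpullCalc Groth.Agent.Etcore.HC
open Groth.Agent.Etcore.PullCoh Groth.Agent.Etcore.GmFun Groth.Agent.Dix.K282.PMap
open Groth.Agent.Etrest

attribute [local instance] Groth.Agent.S0101.result

/-- Abstract calculation. -/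
theorem aux {C : Type*} [Category* C] {A B D E : C} {m : A ⟶ E} {i : A ⟶ B} {c : B ⟶ D} {k : D ⟶ E} {k' : E ⟶ D}
    {t : A ⟶ D} (h : m = i ≫ c ≫ k) (hk : k ≫ k' = 𝟙 D) (ht : t = i ≫ c) : m ≫ k' = t := by
  rw [h, ht, Category.assoc, Category.assoc, hk, Category.comp_id]

theorem th_eq {X Y Z : Scheme.{u}} (f : X ⟶ Y) (t : Y ⟶ Z) (f₀ : X ⟶ Z) (w : f ≫ t = f₀)
    (G : EtCoh.Ab Z) : th f t f₀ w G = (EtCore.pullComp f t).inv.app G ≫ (EtCore.pullCongr w).hom.app G := rfl

section Square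

variable {X Y X' Y' : Scheme.{u}} {f : X ⟶ Y} {g : Y' ⟶ Y} {f' : X' ⟶ Y'} {g' : X' ⟶ X} (w : g' ≫ f = f' ≫ g)

theorem comp_th (G : EtCoh.Ab Y) : (EtCore.pullComp g' f).hom.app G ≫ th g' f (g' ≫ f) rfl G = 𝟙 _ := by
  have h1 : th g' f (g' ≫ f) rfl G = (EtCore.pullComp g' f).inv.app G := theta_rfl_hom_app g' f G
  exact (congrArg (fun k => (EtCore.pullComp g' f).hom.app G ≫ k) h1).trans (FieldDesc621.pullComp_hom_inv g' f G)

theorem cmp_th (G : EtCoh.Ab Y) : (DEtMate.cmp w).hom.app G ≫ th g' f (g' ≫ f) rfl G = th f' g (g' ≫ f) w.symm G :=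
  aux (FieldDesc621.cmp_app w G) (comp_th G) (th_eq _ _ _ _ _)

theorem hp_square (G : EtCoh.Ab Y) (n : ℕ) (x : HH Y G n) :
    HHmap ((DEtMate.cmp w).hom.app G) n (hp f' _ n (hp g G n x)) = hp g' _ n (hp f G n x) := by
  apply (HHmap_bijective (th g' f (g' ≫ f) rfl G) n).1
  have h1 := HHmap_comp ((DEtMate.cmp w).hom.app G) (th g' f (g' ≫ f) rfl G) n (hp f' _ n (hp g G n x))
  refine h1.symm.trans ?_
  rw [cmp_th w G, hp_eq_th]
  exact (hp_eq_th g' f (g' ≫ f) rfl G n x).symm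

/-- The comparison `g⁻¹ f_* G_m ⟶ f'_* G_m`. -/
noncomputable def cP : (EtCoh.pull g).obj (P f) ⟶ P f' :=
  EtCoh.baseChange0 f g f' g' w (EtCoh.Gm X) ≫ (EtCoh.push f').map (gmp g')

theorem pull_cP : (EtCoh.pull f').map (cP w) ≫ (EtCoh.pullPushAdj f').counit.app (EtCoh.Gm X') =
    (DEtMate.cmp w).hom.app (P f) ≫ (EtCoh.pull g').map ((EtCoh.pullPushAdj f).counit.app (EtCoh.Gm X)) ≫ gmp g' := by
  have h1 := FieldDesc621.hbc w (EtCoh.Gm X)
  have h2 := (EtCoh.pullPushAdj f').counit.naturality (gmp g')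
  change (EtCoh.pull f').map ((EtCoh.push f').map (gmp g')) ≫ (EtCoh.pullPushAdj f').counit.app (EtCoh.Gm X') =
    (EtCoh.pullPushAdj f').counit.app ((EtCoh.pull g').obj (EtCoh.Gm X)) ≫ gmp g' at h2
  rw [cP, Functor.map_comp, Category.assoc, h2, ← Category.assoc, h1]
  exact Category.assoc _ _ _

/-- **Compatibility of the edge maps with base change.** -/
theorem eH_cP (n : ℕ) (x : HH Y (P f) n) :
    eH f' (EtCoh.Gm X') n (HHmap (cP w) n (hp g (P f) n x)) = HG g' n (eH f (EtCoh.Gm X) n x) := by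
  rw [eH, hpl_apply, hp_map, ← HHmap_comp, pull_cP, HHmap_comp, HHmap_comp]
  have h1 := hp_square w (P f) n x
  refine (congrArg (fun z => HHmap (gmp g') n (HHmap ((EtCoh.pull g').map
    ((EtCoh.pullPushAdj f).counit.app (EtCoh.Gm X))) n z)) h1).trans ?_
  rw [HG, eH, hpl_apply, hpl_apply, hp_map]

end Square

section Field

open Groth.Agent.Lefpen.H365.FieldPts

variable {k E : Type u} [Field k] [Field E] [Algebra k E] [Algebra.IsSeparable k E]
  {X X' : Scheme.{u}} {f : X ⟶ Spec (CommRingCat.of k)} {f' : X' ⟶ Spec (CommRingCat.of E)} {g' : X' ⟶ X}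
  (hsq : IsPullback g' f' f (xi k E))

include hsq in
theorem isIso_gmp : IsIso (gmp g') := by
  have h1 := Groth.Agent.Dix.K282.BrLift.isIso_gmp_fst (K := k) (Ω := E) f
  let e : X' ≅ pullback f (xi k E) := hsq.isoPullback
  have he : e.hom ≫ pullback.fst f (xi k E) = g' := hsq.isoPullback_hom_fst
  have h2 : IsIso (gmp e.hom) := Groth.Agent.Dix.K282.GmIso.isIso_gmp_etale e.hom
  have h3 := gmp_comp e.hom (pullback.fst f (xi k E)) g' he
  have h4 : IsIso (th e.hom (pullback.fst f (xi k E)) g' he (EtCoh.Gm X) ≫ gmp g') := by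
    rw [h3]
    infer_instance
  exact IsIso.of_isIso_comp_left (th e.hom (pullback.fst f (xi k E)) g' he (EtCoh.Gm X)) _

include hsq in
theorem isIso_bc0 [QuasiCompact f] [QuasiSeparated f] (F : EtCoh.Ab X) :
    IsIso (EtCoh.baseChange0 f (xi k E) f' g' hsq.w F) := by
  have i1 : ∀ {a b : (FinSub k E)ᵒᵖ} (h : a ⟶ b), IsAffineHom ((PullbackLim.specSys (sysF k E)).map h) :=
    fun h => PullbackLim.isAffineHom_specSys _ h
  refine LimBC0.isIso_baseChange0_of_limit (D := PullbackLim.specSys (sysF k E))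
    (c := PullbackLim.specCone (sysF k E) (coconeF k E)) (limF k E) (str k E)
    (fun _ _ h => str_map k E h) (str_cone k E) (fun a => ?_) f' g' hsq
  have : Algebra.IsSeparable k a.unop.1 := inferInstance
  have : Etale (str k E a) := (VL k E a.unop).prop
  exact Groth.Agent.Sga5.H855.EtUnit.isIso_baseChange0_of_etale (IsPullback.of_hasPullback f (str k E a)) F

include hsq in
/-- **`t⁻¹ f_* G_m ≅ f'_* G_m`.** -/
theorem isIso_cP [QuasiCompact f] [QuasiSeparated f] : IsIso (cP hsq.w) := by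
  have h1 := isIso_gmp hsq
  have h2 := isIso_bc0 hsq (EtCoh.Gm X)
  rw [cP]
  infer_instance

include hsq in
/-- **Descent of injectivity of the edge map.** -/
theorem hp_eq_zero [QuasiCompact f] [QuasiSeparated f] (n : ℕ)
    (hinj : Function.Injective (eH f' (EtCoh.Gm X') n)) (x : HH (Spec (CommRingCat.of k)) (P f) n)
    (hx : eH f (EtCoh.Gm X) n x = 0) : hp (xi k E) (P f) n x = 0 := by
  have h1 := isIso_cP hsq
  apply (HHmap_bijective (cP hsq.w) n).1
  apply hinj
  rw [eH_cP, hx, map_zero, map_zero, map_zero]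

end Field

end Groth.Agent.Dix.K109.BaseCh
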