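import Groth.Prelude.Def_EtCore
import Groth.Agent.Sga4h.MuConst

/-!
# Morphisms from constant sheaves and the Kummer sequence with constant kernel

* `evl f m` : the value of `f : const M ⟶ F` at `m`; `hom_ext_zmod`, `hom_ext_int`;
* `el F q hq : const (ZMod n) ⟶ F` for `q ∈ F(V)` killed by `n`;
* `shortExact_kummer` : `0 ⟶ ℤ/n --ζ--> G_m --n--> G_m ⟶ 0` for a primitive root of unity `ζ`.
-/

set_option autoImplicit false
set_option backward.isDefEq.respectTransparency.types false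
universe u

open CategoryTheory CategoryTheory.Limits AlgebraicGeometry Opposite

namespace Groth.Agent.Dix.K109.ConstEl

open Groth.Agent.Sga4h.ConstCrit Groth.Agent.Sga4h.MuConst

variable {V : Scheme.{u}}

/-- `ULift.up` as a homomorphism. -/
def upH (M : Type) [AddCommGroup M] : M →+ ULift.{u + 1} M := ⟨⟨ULift.up, rfl⟩, fun _ _ => rfl⟩

/-- `ULift.down` as a homomorphism. -/
def downH (M : Type) [AddCommGroup M] : ULift.{u + 1} M →+ M := ⟨⟨ULift.down, rfl⟩, fun _ _ => rfl⟩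

section Evl

variable {M M' : Type} [AddCommGroup M] [AddCommGroup M'] {F G : EtCoh.Ab V}

/-- The value of a morphism from a constant sheaf at an element. -/
noncomputable def evl (f : EtCoh.const V M ⟶ F) : M →+ F.obj.obj (op (EtCoh.top V)) :=
  (((EtCore.constAdj V).homEquiv (AddCommGrpCat.of (ULift.{u + 1} M)) F) f).hom.comp (upH M)

theorem evl_comp (f : EtCoh.const V M ⟶ F) (g : F ⟶ G) (m : M) :
    evl (f ≫ g) m = g.hom.app (op (EtCoh.top V)) (evl f m) := by
  have h := (EtCore.constAdj V).homEquiv_naturality_right f g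
  exact ConcreteCategory.congr_hom h (ULift.up m)

theorem hom_ext {f g : EtCoh.const V M ⟶ F} (h : ∀ m, evl f m = evl g m) : f = g := by
  apply ((EtCore.constAdj V).homEquiv (AddCommGrpCat.of (ULift.{u + 1} M)) F).injective
  ext ⟨m⟩
  exact h m

theorem hom_ext_zmod {n : ℕ} {f g : EtCoh.const V (ZMod n) ⟶ F} (h : evl f 1 = evl g 1) : f = g := by
  refine hom_ext fun m => ?_
  obtain ⟨k, rfl⟩ := ZMod.intCast_surjective m
  have h1 : ((k : ZMod n)) = k • (1 : ZMod n) := by simp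
  rw [h1, map_zsmul, map_zsmul, h]

theorem hom_ext_int {f g : EtCoh.const V ℤ ⟶ F} (h : evl f 1 = evl g 1) : f = g := by
  refine hom_ext fun m => ?_
  have h1 : m = m • (1 : ℤ) := by simp
  rw [h1, map_zsmul, map_zsmul, h]

/-- A homomorphism, lifted to a larger universe. -/
def lh (f : M →+ M') : AddCommGrpCat.of (ULift.{u + 1} M) ⟶ AddCommGrpCat.of (ULift.{u + 1} M') :=
  AddCommGrpCat.ofHom (((upH M').comp f).comp (downH M))

/-- The morphism of constant sheaves given by a homomorphism. -/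
noncomputable def cmap (V : Scheme.{u}) (f : M →+ M') : EtCoh.const V M ⟶ EtCoh.const V M' :=
  (constantSheaf V.smallEtaleTopology AddCommGrpCat.{u + 1}).map (lh f)

theorem evl_cmap (f : M →+ M') (g : EtCoh.const V M' ⟶ F) (m : M) :
    evl (cmap V f ≫ g) m = evl g (f m) := by
  have h := (EtCore.constAdj V).homEquiv_naturality_left (lh f) g
  exact ConcreteCategory.congr_hom h (ULift.up m)

theorem pull_cmap {W : Scheme.{u}} (t : W ⟶ V) (f : M →+ M') :
    (EtCoh.pull t).map (cmap V f) ≫ (EtCore.pullConst t M').hom = (EtCore.pullConst t M).hom ≫ cmap W f :=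
  (EtCore.pullConstIso t).hom.naturality (lh f)

theorem hom_app_nsmul (c : ℕ) (f : F ⟶ G) (U : V.Etale) (s : F.obj.obj (op U)) :
    (c • f).hom.app (op U) s = c • f.hom.app (op U) s := by
  have h1 : (c • f).hom.app (op U) = c • f.hom.app (op U) := (secF U).map_nsmul (f := f) (n := c)
  rw [h1]
  simp

theorem evl_nsmul (c : ℕ) (f : EtCoh.const V M ⟶ F) (m : M) : evl (c • f) m = c • evl f m := by
  have h : c • f = f ≫ (c • 𝟙 F) := by rw [Preadditive.comp_nsmul, Category.comp_id]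
  rw [h, evl_comp, hom_app_nsmul]
  rfl

/-- The morphism `ℤ/n ⟶ F` given by a section killed by `n`. -/
noncomputable def el (F : EtCoh.Ab V) {n : ℕ} (q : F.obj.obj (op (EtCoh.top V))) (hq : n • q = 0) :
    EtCoh.const V (ZMod n) ⟶ F :=
  ((EtCore.constAdj V).homEquiv (AddCommGrpCat.of (ULift.{u + 1} (ZMod n))) F).symm
    (AddCommGrpCat.ofHom (mulHom q hq))

theorem evl_el {n : ℕ} (q : F.obj.obj (op (EtCoh.top V))) (hq : n • q = 0) : evl (el F q hq) 1 = q := by
  have h := Equiv.apply_symm_apply ((EtCore.constAdj V).homEquiv (AddCommGrpCat.of (ULift.{u + 1} (ZMod n))) F)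
    (AddCommGrpCat.ofHom (mulHom q hq))
  have h1 := ConcreteCategory.congr_hom h (ULift.up 1)
  refine h1.trans ?_
  have h2 := mulHom_apply.{u + 1, u} q hq 1
  rw [Int.cast_one, one_zsmul] at h2
  exact h2

/-- The morphism `ℤ ⟶ F` given by a section. -/
noncomputable def elZ (F : EtCoh.Ab V) (q : F.obj.obj (op (EtCoh.top V))) : EtCoh.const V ℤ ⟶ F :=
  ((EtCore.constAdj V).homEquiv (AddCommGrpCat.of (ULift.{u + 1} ℤ)) F).symm
    (AddCommGrpCat.ofHom ((zmultiplesHom _ q).comp (downH ℤ)))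

theorem evl_elZ (q : F.obj.obj (op (EtCoh.top V))) : evl (elZ F q) 1 = q := by
  have h := Equiv.apply_symm_apply ((EtCore.constAdj V).homEquiv (AddCommGrpCat.of (ULift.{u + 1} ℤ)) F)
    (AddCommGrpCat.ofHom ((zmultiplesHom _ q).comp (downH ℤ)))
  have h1 := ConcreteCategory.congr_hom h (ULift.up 1)
  refine h1.trans ?_
  change (1 : ℤ) • q = q
  exact one_zsmul q

theorem evl_one_zmod {n : ℕ} (f : EtCoh.const V (ZMod n) ⟶ F) : n • evl f 1 = 0 := by
  rw [← map_nsmul]
  simp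

theorem eq_el {n : ℕ} (f : EtCoh.const V (ZMod n) ⟶ F) : f = el F (evl f 1) (evl_one_zmod f) :=
  hom_ext_zmod (evl_el _ _).symm

end Evl

section Iso

variable {n : ℕ} {F : EtCoh.Ab V} (q : F.obj.obj (op (EtCoh.top V))) (hq : n • q = 0)
    (hinj : ∀ (W : V.Etale) (_ : Nonempty W.left) (k : ℤ), k • F.obj.map (toTop W).op q = 0 → (k : ZMod n) = 0)
    (hsurj : ∀ (W : V.Etale) (s : F.obj.obj (op W)) (w : W.left), ∃ (W' : V.Etale) (g : W' ⟶ W) (w' : W'.left)
      (k : ℤ), g.left w' = w ∧ F.obj.map g.op s = k • F.obj.map (toTop W').op q)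

theorem evl_constIsoSheaf : evl (constIsoSheaf F q hq hinj hsurj).hom 1 = q := by
  have h0 : (constIsoSheaf F q hq hinj hsurj).hom =
      ((sheafificationAdjunction V.smallEtaleTopology AddCommGrpCat.{u + 1}).homEquiv _ _).symm
        (mulMap F.obj q hq) := by
    rw [Adjunction.homEquiv_counit]
    rfl
  have h2 := congrArg (fun f : EtCoh.const V (ZMod n) ⟶ F => evl f 1) h0
  refine h2.trans ?_
  have h1 : ((EtCore.constAdj V).homEquiv (AddCommGrpCat.of (ULift.{u + 1} (ZMod n))) F)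
      (((sheafificationAdjunction V.smallEtaleTopology AddCommGrpCat.{u + 1}).homEquiv _ _).symm
        (mulMap F.obj q hq)) = (mulMap F.obj q hq).app (op (EtCoh.top V)) := by
    have h3 := Adjunction.comp_homEquiv (constantPresheafAdj AddCommGrpCat.{u + 1} (EtCore.topIsTerminal V))
      (sheafificationAdjunction V.smallEtaleTopology AddCommGrpCat.{u + 1})
    have h3 := congrFun (congrFun h3 (AddCommGrpCat.of (ULift.{u + 1} (ZMod n)))) F
    refine (congrArg (fun e => e (((sheafificationAdjunction V.smallEtaleTopology AddCommGrpCat.{u + 1}).homEquiv _ _).symm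
        (mulMap F.obj q hq))) h3).trans ?_
    rw [Equiv.trans_apply, Equiv.apply_symm_apply, Adjunction.homEquiv_unit]
    exact Category.id_comp _
  have h3 := ConcreteCategory.congr_hom h1 (ULift.up 1)
  refine h3.trans ?_
  have h4 := mulMap_app F.obj q hq (EtCoh.top V) 1
  rw [Int.cast_one, one_zsmul] at h4
  refine h4.trans ?_
  have h5 : toTop (EtCoh.top V) = 𝟙 _ := toTop_unique _ _
  rw [h5, op_id, F.obj.map_id]
  rfl

end Iso

section Kummer

variable (n : ℕ) (hn : 0 < n) (hu : IsUnit (n : Γ(V, ⊤))) (ζ : Γ(V, ⊤)ˣ) (hζ : IsPrim n ζ)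

theorem nsmul_gmMk (hζ : ζ ^ n = 1) : n • (gmMk (W := EtCoh.top V) ζ : (EtCoh.Gm V).obj.obj (op (EtCoh.top V))) = 0 := by
  apply gmVal_injective
  rw [gmVal_nsmul, gmVal_mk, gmVal_zero]
  exact hζ

/-- The Kummer map `ℤ/n ⟶ G_m` of a root of unity. -/
noncomputable def kz (hζ : ζ ^ n = 1) : EtCoh.const V (ZMod n) ⟶ EtCoh.Gm V :=
  el (EtCoh.Gm V) (gmMk (W := EtCoh.top V) ζ) (nsmul_gmMk n ζ hζ)

include hn hu hζ in
theorem exists_iso : ∃ e : EtCoh.const V (ZMod n) ≅ EtCoh.mu V n, e.hom ≫ EtCoh.muι V n = kz n ζ hζ.pow_eq := by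
  obtain ⟨q, hq⟩ := exists_gen n ζ hζ
  have hq0 : n • q = 0 := by
    apply muι_injective n (EtCoh.top V)
    have h1 := map_nsmul ((EtCoh.muι V n).hom.app (op (EtCoh.top V))).hom n q
    refine h1.trans ?_
    refine Eq.trans ?_ (map_zero ((EtCoh.muι V n).hom.app (op (EtCoh.top V))).hom).symm
    apply gmVal_injective
    have h2 : gmVal (n • (EtCoh.muι V n).hom.app (op (EtCoh.top V)) q) = 1 := by
      rw [hq, gmVal_nsmul, gmVal_mk]
      exact hζ.pow_eq
    exact h2
  refine ⟨constIsoSheaf (EtCoh.mu V n) q hq0 (mu_inj n hn ζ hζ hq) (mu_surj n hn hu ζ hζ hq), ?_⟩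
  apply hom_ext_zmod
  rw [evl_comp, evl_constIsoSheaf, hq, kz, evl_el]

theorem kz_zero (hζ : ζ ^ n = 1) : kz n ζ hζ ≫ (n • 𝟙 (EtCoh.Gm V)) = 0 := by
  apply hom_ext_zmod
  rw [Preadditive.comp_nsmul, Category.comp_id, evl_nsmul, kz, evl_el, nsmul_gmMk n ζ hζ]
  rw [← evl_one_zmod (0 : EtCoh.const V (ZMod n) ⟶ EtCoh.Gm V), ← evl_nsmul, smul_zero]

include hn hu in
/-- **The Kummer sequence** with constant kernel. -/
theorem shortExact_kummer (hepi : Epi (EtCoh.powMap V n)) :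
    (ShortComplex.mk (kz n ζ hζ.pow_eq) (n • 𝟙 (EtCoh.Gm V)) (kz_zero n ζ hζ.pow_eq)).ShortExact := by
  obtain ⟨e, he⟩ := exists_iso n hn hu ζ hζ
  have h1 : (ShortComplex.mk (EtCoh.muι V n) (EtCoh.powMap V n) (kernel.condition _)).ShortExact :=
    { exact := ShortComplex.exact_of_f_is_kernel _ (kernelIsKernel _)
      mono_f := inferInstanceAs (Mono (kernel.ι _))
      epi_g := hepi }
  refine ShortComplex.shortExact_of_iso (S₁ := ShortComplex.mk (EtCoh.muι V n) (EtCoh.powMap V n)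
    (kernel.condition _)) (ShortComplex.isoMk e.symm (Iso.refl _) (Iso.refl _) ?_ ?_) h1
  · change e.inv ≫ kz n ζ hζ.pow_eq = EtCoh.muι V n ≫ 𝟙 _
    rw [Category.comp_id, ← he, Iso.inv_hom_id_assoc]
  · change 𝟙 _ ≫ (n • 𝟙 (EtCoh.Gm V)) = (n • 𝟙 (EtCoh.Gm V)) ≫ 𝟙 _
    rw [Category.comp_id, Category.id_comp]

/-- Compatibility of the Kummer maps. -/
theorem cmap_kz {m n r : ℕ} (f : ZMod m →+ ZMod n) (hf : f 1 = r) (ζ ζ' : Γ(V, ⊤)ˣ) (h : ζ ^ n = 1) (h' : ζ' ^ m = 1)
    (e : ζ ^ r = ζ') : cmap V f ≫ kz n ζ h = kz m ζ' h' := by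
  apply hom_ext_zmod
  have h1 : ((r : ZMod n)) = r • (1 : ZMod n) := by simp
  rw [evl_cmap, hf, h1, map_nsmul, kz, kz, evl_el, evl_el]
  apply gmVal_injective
  rw [gmVal_nsmul, gmVal_mk, gmVal_mk]
  exact e

end Kummer

end Groth.Agent.Dix.K109.ConstEl
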