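import Mathlib.Algebra.Homology.DerivedCategory.Ext.ExactSequences
import Mathlib.Algebra.Homology.DerivedCategory.Ext.Linear
import Mathlib.Tactic.LinearCombination
import Mathlib.Data.Int.GCD

/-!
# A twisted vanishing argument for `Ext` classes

The abstract part of `scd ≤ 2`: two exact sequences `0 ⟶ A ⟶ U --(T - 1)--> U ⟶ 0` and
`0 ⟶ U ⟶ G --m--> G ⟶ 0`, and a semilinear endomorphism of `G`.
-/

set_option autoImplicit false
universe w v u

open CategoryTheory CategoryTheory.Abelian CategoryTheory.Limits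

namespace Groth.Agent.Dix.K109.ExtTwist

variable {C : Type u} [Category.{v} C] [Abelian C] [HasExt.{w} C]

/-- Postcomposition as an additive map. -/
noncomputable def post {X Y Z : C} (f : Y ⟶ Z) (n : ℕ) : Ext X Y n →+ Ext X Z n where
  toFun x := x.comp (Ext.mk₀ f) (add_zero n)
  map_zero' := by rw [Ext.zero_comp]
  map_add' _ _ := by rw [Ext.add_comp]

theorem post_apply {X Y Z : C} (f : Y ⟶ Z) (n : ℕ) (x : Ext X Y n) :
    post f n x = x.comp (Ext.mk₀ f) (add_zero n) := rfl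

theorem post_id {X Y : C} (n : ℕ) (x : Ext X Y n) : post (𝟙 Y) n x = x := Ext.comp_mk₀_id x

theorem post_comp {X Y Z W : C} (f : Y ⟶ Z) (g : Z ⟶ W) (n : ℕ) (x : Ext X Y n) :
    post (f ≫ g) n x = post g n (post f n x) := by
  rw [post_apply, post_apply, post_apply, ← Ext.mk₀_comp_mk₀, Ext.comp_assoc_of_third_deg_zero]

theorem post_sub {X Y Z : C} (f g : Y ⟶ Z) (n : ℕ) (x : Ext X Y n) :
    post (f - g) n x = post f n x - post g n x := by
  rw [post_apply, post_apply, post_apply, sub_eq_add_neg, Ext.mk₀_add, Ext.mk₀_neg, Ext.comp_add,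
    Ext.comp_neg, ← sub_eq_add_neg]

theorem post_nsmul {X Y Z : C} (f : Y ⟶ Z) (n m : ℕ) (x : Ext X Y n) :
    post (m • f) n x = m • post f n x := by
  induction m with
  | zero => rw [zero_smul, zero_smul, post_apply, Ext.mk₀_zero, Ext.comp_zero]
  | succ m ih =>
    rw [succ_nsmul, succ_nsmul, ← ih, post_apply, Ext.mk₀_add, Ext.comp_add]
    rfl

theorem nsmul_eq {X Y : C} (n m : ℕ) (x : Ext X Y n) : m • x = post (m • 𝟙 Y) n x := by
  rw [post_nsmul, post_id]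

theorem iter_sub {M : Type*} [AddCommGroup M] (f : M →+ M) (k : ℕ) (z : M) :
    ∃ z', f^[k] z - z = f z' - z' := by
  induction k with
  | zero => exact ⟨0, by simp⟩
  | succ k ih =>
    obtain ⟨z', hz'⟩ := ih
    refine ⟨z' + f^[k] z, ?_⟩
    rw [Function.iterate_succ_apply', map_add]
    have h1 : f (f^[k] z) - z = (f (f^[k] z) - f^[k] z) + (f^[k] z - z) := by abel
    rw [h1, hz']
    abel

theorem iter_nsmul {M : Type*} [AddCommGroup M] (f : M →+ M) (k : ℕ) (c : ℤ) (z : M) :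
    f^[k] (c • z) = c • f^[k] z := by
  induction k with
  | zero => rfl
  | succ k ih => rw [Function.iterate_succ_apply', Function.iterate_succ_apply', ih, map_zsmul]

theorem algebra_aux {M : Type*} [AddCommGroup M] (f : M →+ M) (v : M) (c k r u m : ℕ)
    (h1 : v = (c ^ k) • f^[k] v) (hc : c ^ k = 1 + r * u) (hu : u.Coprime m) (hm : m • v = 0) :
    ∃ z, r • v = f z - z := by
  obtain ⟨u', q, hq⟩ : ∃ u' q : ℤ, (u : ℤ) * u' + m * q = 1 :=
    ⟨u.gcdA m, u.gcdB m, by rw [← Nat.gcd_eq_gcd_ab]; exact_mod_cast congrArg Nat.cast hu⟩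
  obtain ⟨z, hz⟩ := iter_sub f k ((-(u' * (c ^ k : ℕ))) • v)
  refine ⟨z, ?_⟩
  rw [← hz, iter_nsmul]
  have h2 : ((-(u' * (c ^ k : ℕ))) • f^[k] v : M) = (-u') • v := by
    conv_rhs => rw [h1]
    rw [← natCast_zsmul, smul_smul]
    congr 1
    ring
  have h3 : ((m : ℤ) * (q * r)) • v = 0 := by
    rw [mul_comm, mul_smul, natCast_zsmul, hm, smul_zero]
  rw [h2, ← sub_smul, ← natCast_zsmul, hc]
  have h4 : (r : ℤ) = (-u' - -(u' * ((1 + r * u : ℕ) : ℤ))) + (m : ℤ) * (q * r) := by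
    push_cast
    linear_combination (-(r : ℤ)) * hq
  conv_lhs => rw [h4]
  rw [add_smul, h3, add_zero]

variable {P A A' U U' G : C} (ι : A ⟶ U) (ι' : A' ⟶ U') (T : U ⟶ U) (T' : U' ⟶ U')
  (w : ι ≫ (T - 𝟙 U) = 0) (w' : ι' ≫ (T' - 𝟙 U') = 0)
  (hS : (ShortComplex.mk ι (T - 𝟙 U) w).ShortExact)
  (hS' : (ShortComplex.mk ι' (T' - 𝟙 U') w').ShortExact)
  (j : A ⟶ A') (J : U ⟶ U') (hj : j ≫ ι' = ι ≫ J) (hJ : J ≫ T' = T ≫ J)
  (θ : U ⟶ G) (θ' : U' ⟶ G) (m m' r : ℕ) (hm : m' = m * r)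
  (wθ : θ ≫ (m • 𝟙 G) = 0) (wθ' : θ' ≫ (m' • 𝟙 G) = 0)
  (hK : (ShortComplex.mk θ (m • 𝟙 G) wθ).ShortExact)
  (hK' : (ShortComplex.mk θ' (m' • 𝟙 G) wθ').ShortExact)
  (hJθ : J ≫ θ' = θ)
  (Sg : G ⟶ G) (c : ℕ) (hSg : (c • T') ≫ θ' = θ' ≫ Sg)

/-- The boundary of the Kummer sequence. -/
noncomputable def bd (b : P ⟶ G) : Ext P U' 1 := (Ext.mk₀ b).comp hK'.extClass (zero_add 1)

include hSg in
theorem bd_sg (b : P ⟶ G) : bd θ' m' wθ' hK' (b ≫ Sg) = c • post T' 1 (bd θ' m' wθ' hK' b) := by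
  let φ : ShortComplex.mk θ' (m' • 𝟙 G) wθ' ⟶ ShortComplex.mk θ' (m' • 𝟙 G) wθ' :=
    { τ₁ := c • T'
      τ₂ := Sg
      τ₃ := Sg
      comm₁₂ := hSg
      comm₂₃ := by
        dsimp
        rw [Preadditive.comp_nsmul, Preadditive.nsmul_comp, Category.comp_id, Category.id_comp] }
  have h1 := ShortComplex.ShortExact.extClass_naturality hK' hK' φ
  change hK'.extClass.comp (Ext.mk₀ (c • T')) (add_zero 1) = (Ext.mk₀ Sg).comp hK'.extClass (zero_add 1) at h1
  rw [bd, ← Ext.mk₀_comp_mk₀, Ext.comp_assoc_of_second_deg_zero, ← h1,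
    ← Ext.comp_assoc_of_third_deg_zero, ← post_apply, post_nsmul]
  rfl

theorem bd_nsmul (b : P ⟶ G) (r : ℕ) :
    (Ext.mk₀ (r • b)).comp hK'.extClass (zero_add 1) = r • bd θ' m' wθ' hK' b := by
  induction r with
  | zero => rw [zero_smul, zero_smul, Ext.mk₀_zero, Ext.zero_comp]
  | succ r ih => rw [succ_nsmul, succ_nsmul, ← ih, Ext.mk₀_add, Ext.add_comp]; rfl

include hSg in
theorem bd_iter (b : P ⟶ G) (k : ℕ) : bd θ' m' wθ' hK' ((fun z => z ≫ Sg)^[k] b) =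
    (c ^ k) • (post T' 1)^[k] (bd θ' m' wθ' hK' b) := by
  induction k with
  | zero => simp
  | succ k ih =>
    rw [Function.iterate_succ_apply', bd_sg T' θ' m' wθ' hK' Sg c hSg, ih, map_nsmul,
      Function.iterate_succ_apply', smul_smul, pow_succ, mul_comm c]

theorem nsmul_bd (b : P ⟶ G) : m' • bd θ' m' wθ' hK' b = 0 := by
  have h1 : m' • 𝟙 U' = 0 := by
    have : Mono θ' := hK'.mono_f
    rw [← cancel_mono θ', Preadditive.nsmul_comp, Category.id_comp, zero_comp, ← wθ',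
      Preadditive.comp_nsmul, Category.comp_id]
  rw [nsmul_eq, h1, post_apply, Ext.mk₀_zero, Ext.comp_zero]

include hm hJθ in
theorem bd_J (b : P ⟶ G) : post J 1 (bd θ m wθ hK b) = r • bd θ' m' wθ' hK' b := by
  let φ : ShortComplex.mk θ (m • 𝟙 G) wθ ⟶ ShortComplex.mk θ' (m' • 𝟙 G) wθ' :=
    { τ₁ := J
      τ₂ := 𝟙 G
      τ₃ := r • 𝟙 G
      comm₁₂ := by
        dsimp
        rw [hJθ, Category.comp_id]
      comm₂₃ := by
        dsimp
        rw [Category.id_comp, Preadditive.comp_nsmul, Category.comp_id, smul_smul, hm, mul_comm] }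
  have h1 := ShortComplex.ShortExact.extClass_naturality hK hK' φ
  change hK.extClass.comp (Ext.mk₀ J) (add_zero 1) = (Ext.mk₀ (r • 𝟙 G)).comp hK'.extClass (zero_add 1) at h1
  rw [bd, post_apply, Ext.comp_assoc_of_third_deg_zero, h1, ← Ext.comp_assoc_of_second_deg_zero,
    Ext.mk₀_comp_mk₀, Preadditive.comp_nsmul, Category.comp_id, bd_nsmul]

include hS' hj hJ hm hJθ hK' hSg in
/-- The vanishing argument. -/
theorem vanish (b : P ⟶ G) (k : ℕ) (hb : (fun z => z ≫ Sg)^[k] b = b)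
    (u : ℕ) (hc : c ^ k = 1 + r * u) (hu : u.Coprime m') :
    (((Ext.mk₀ b).comp hK.extClass (zero_add 1)).comp hS.extClass (show 1 + 1 = 2 from rfl)).comp (Ext.mk₀ j)
      (add_zero 2) = 0 := by
  have h1 := bd_iter T' θ' m' wθ' hK' Sg c hSg b k
  rw [hb] at h1
  obtain ⟨z, hz⟩ := algebra_aux (post T' 1) _ c k r u m' h1 hc hu (nsmul_bd θ' m' wθ' hK' b)
  rw [← bd_J J θ θ' m m' r hm wθ wθ' hK hK' hJθ] at hz
  let φ : ShortComplex.mk ι (T - 𝟙 U) w ⟶ ShortComplex.mk ι' (T' - 𝟙 U') w' :=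
    { τ₁ := j
      τ₂ := J
      τ₃ := J
      comm₁₂ := hj
      comm₂₃ := by
        dsimp
        rw [Preadditive.comp_sub, hJ, Preadditive.sub_comp, Category.comp_id, Category.id_comp] }
  have h2 := ShortComplex.ShortExact.extClass_naturality hS hS' φ
  change hS.extClass.comp (Ext.mk₀ j) (add_zero 1) = (Ext.mk₀ J).comp hS'.extClass (zero_add 1) at h2
  rw [Ext.comp_assoc_of_third_deg_zero, h2, ← Ext.comp_assoc_of_second_deg_zero]
  change (post J 1 (bd θ m wθ hK b)).comp hS'.extClass _ = 0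
  have h3 : (post T' 1) z - z = post (T' - 𝟙 U') 1 z := by rw [post_sub, post_id]
  rw [hz, h3, post_apply, Ext.comp_assoc_of_second_deg_zero]
  have h4 := hS'.comp_extClass
  change (Ext.mk₀ (T' - 𝟙 U')).comp hS'.extClass (zero_add 1) = 0 at h4
  rw [h4, Ext.comp_zero]

end Groth.Agent.Dix.K109.ExtTwist
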