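import Groth.Agent.Dix.K109.ConstEl
import Groth.Agent.CurvesA.EtFieldTors
import Groth.Agent.Dix.K109.ExtTwist
import Mathlib.LinearAlgebra.FreeModule.PID

/-!
# Constant sheaves on `Spec K` with finitely generated free value

* `nonempty_constIso` : a sheaf on `Spec K` all of whose sections come from `K` is constant;
* `noTors_of_split` : `p`-torsion of `H^q(K, G)` for such a sheaf with free finitely generated value, from `H^q(K, ℤ)`.
-/

set_option autoImplicit false
set_option backward.isDefEq.respectTransparency.types false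
universe u

open CategoryTheory CategoryTheory.Limits AlgebraicGeometry Opposite CategoryTheory.Abelian

namespace Groth.Agent.Dix.K109.ConstGen

open Groth.Agent.Sga4h.ConstCrit ConstEl
open Groth.Agent.CurvesA.EtFieldObj Groth.Agent.CurvesA.EtFieldDesc Groth.Agent.CurvesA.EtFieldTr
open Groth.Agent.CurvesA.EtFieldFin

section Gen

variable {V : Scheme.{u}} {M : Type} [AddCommGroup M] (F : EtCoh.Ab V) (f : M →+ F.obj.obj (op (EtCoh.top V)))

/-- The constant presheaf. -/
noncomputable abbrev cPre (V : Scheme.{u}) (M : Type) [AddCommGroup M] : V.Etaleᵒᵖ ⥤ AddCommGrpCat.{u + 1} :=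
  (Functor.const V.Etaleᵒᵖ).obj (AddCommGrpCat.of (ULift.{u + 1} M))

/-- The morphism of presheaves defined by a homomorphism to the global sections. -/
noncomputable def gMap : cPre V M ⟶ F.obj where
  app W := AddCommGrpCat.ofHom ((F.obj.map (toTop W.unop).op).hom.comp (f.comp (downH M)))
  naturality W W' g := by
    ext x
    change F.obj.map (toTop W'.unop).op (f x.down) = F.obj.map g (F.obj.map (toTop W.unop).op (f x.down))
    have h2 : toTop W'.unop = g.unop ≫ toTop W.unop := toTop_unique _ _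
    rw [h2, op_comp]
    exact (Functor.map_comp_apply F.obj (toTop W.unop).op g _)

theorem gMap_app (W : V.Etale) (m : M) : (gMap F f).app (op W) ⟨m⟩ = F.obj.map (toTop W).op (f m) := rfl

/-- Criterion for a sheaf to be constant. -/
theorem nonempty_iso
    (hinj : ∀ (W : V.Etale) (_ : Nonempty W.left) (m : M), F.obj.map (toTop W).op (f m) = 0 → m = 0)
    (hsurj : ∀ (W : V.Etale) (s : F.obj.obj (op W)) (w : W.left), ∃ (W' : V.Etale) (g : W' ⟶ W) (w' : W'.left)
      (m : M), g.left w' = w ∧ F.obj.map g.op s = F.obj.map (toTop W').op (f m)) :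
    Nonempty (EtCoh.const V M ≅ F) := by
  have h1 : Presheaf.IsLocallyInjective V.smallEtaleTopology (gMap F f) :=
    { equalizerSieve_mem := fun {W} x y h => by
        rw [Groth.Agent.Etcore.Cover.mem_iff]
        intro w
        refine ⟨W.unop, 𝟙 _, w, ?_, rfl⟩
        have h4 : x.down - y.down = 0 := hinj W.unop ⟨w⟩ _ (by
          have h5 : F.obj.map (toTop W.unop).op (f (x.down - y.down)) =
              F.obj.map (toTop W.unop).op (f x.down) - F.obj.map (toTop W.unop).op (f y.down) := by
            rw [map_sub, map_sub]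
          rw [h5]
          exact sub_eq_zero.2 h)
        change x = y
        exact ULift.down_injective (sub_eq_zero.1 h4) }
  have h2 : Presheaf.IsLocallySurjective V.smallEtaleTopology (gMap F f) :=
    { imageSieve_mem := fun {W} s => by
        rw [Groth.Agent.Etcore.Cover.mem_iff]
        intro w
        obtain ⟨W', g, w', m, hw, hm⟩ := hsurj W s w
        exact ⟨W', g, w', ⟨⟨m⟩, hm.symm⟩, hw⟩ }
  have h3 : V.smallEtaleTopology.W (gMap F f) :=
    (GrothendieckTopology.W_iff_isLocallyBijective _ _).2 ⟨h1, h2⟩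
  have h4 : IsIso ((presheafToSheaf V.smallEtaleTopology AddCommGrpCat.{u + 1}).map (gMap F f)) :=
    (GrothendieckTopology.W_iff _ _).1 h3
  exact ⟨@asIso _ _ _ _ ((presheafToSheaf V.smallEtaleTopology AddCommGrpCat.{u + 1}).map (gMap F f)) h4 ≪≫
    asIso ((sheafificationAdjunction V.smallEtaleTopology AddCommGrpCat.{u + 1}).counit.app F)⟩

end Gen

section Field

variable {K : Type u} [Field K] (F : EtCoh.Ab (Spec (CommRingCat.of K)))

/-- `Spec K` as the final object. -/
noncomputable def topIso : etObj K K ≅ EtCoh.top (Spec (CommRingCat.of K)) :=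
  MorphismProperty.Over.isoMk (Iso.refl _) (by
    refine (Category.id_comp _).trans ?_
    exact (Groth.Agent.CurvesA.EtFieldH.hom_etObj_self K).symm)

/-- A sheaf on `Spec K` all of whose sections come from `K` is constant. -/
theorem nonempty_constIso (h : Split K F) {M : Type} [AddCommGroup M]
    (e : M ≃+ F.obj.obj (op (etObj K K))) : Nonempty (EtCoh.const (Spec (CommRingCat.of K)) M ≅ F) := by
  let f : M →+ F.obj.obj (op (EtCoh.top (Spec (CommRingCat.of K)))) :=
    (F.obj.map (topIso (K := K)).inv.op).hom.comp e.toAddMonoidHom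
  have hf : ∀ (W : (Spec (CommRingCat.of K)).Etale) (m : M), F.obj.map (toTop W).op (f m) =
      F.obj.map (toTop W ≫ (topIso (K := K)).inv).op (e m) := by
    intro W m
    change F.obj.map (toTop W).op (F.obj.map (topIso (K := K)).inv.op (e m)) = _
    rw [← map_comp_apply]
  refine nonempty_iso F f (fun W hW m hm => ?_) fun W s w => ?_
  · rw [hf] at hm
    have h1 := map_injective F (toTop W ≫ (topIso (K := K)).inv) (hm.trans (map_zero _).symm)
    exact (map_eq_zero_iff e e.injective).1 h1
  · obtain ⟨L, _, _, _, _, g, hg, x, rfl⟩ := exists_field_hit W w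
    obtain ⟨N, i1, i2, i3, i4, ⟨φ⟩, -⟩ := exists_galois (K := K) L L
    let a : etObj K N ⟶ W := etMap φ ≫ homMk g hg
    obtain ⟨s₀, hs₀⟩ := h N (toTop (etObj K N) ≫ (topIso (K := K)).inv) (F.obj.map a.op s)
    refine ⟨etObj K N, a, (⟨⊥, Ideal.isPrime_bot⟩ : PrimeSpectrum N), e.symm s₀, ?_, ?_⟩
    · have : Subsingleton (PrimeSpectrum L) := inferInstance
      exact congrArg (fun z : Spec (CommRingCat.of L) => g z) (this.elim (α := PrimeSpectrum L) _ _)
    · rw [hf, e.apply_symm_apply, hs₀]

end Field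

section Sum

variable {V : Scheme.{u}}

theorem evl_sum {M : Type} [AddCommGroup M] {F : EtCoh.Ab V} {ι : Type*} (s : Finset ι)
    (f : ι → (EtCoh.const V M ⟶ F)) (m : M) : evl (∑ i ∈ s, f i) m = ∑ i ∈ s, evl (f i) m := by
  classical
  have h0 : evl (0 : EtCoh.const V M ⟶ F) m = 0 := by
    have h := evl_nsmul 0 (0 : EtCoh.const V M ⟶ F) m
    rwa [zero_smul, zero_smul] at h
  have hadd : ∀ a b : EtCoh.const V M ⟶ F, evl (a + b) m = evl a m + evl b m := by
    intro a b
    have h1 := evl_comp (𝟙 (EtCoh.const V M)) (a + b) m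
    have h2 := evl_comp (𝟙 (EtCoh.const V M)) a m
    have h3 := evl_comp (𝟙 (EtCoh.const V M)) b m
    rw [Category.id_comp] at h1 h2 h3
    rw [h1, h2, h3]
    rfl
  induction s using Finset.induction_on with
  | empty => rw [Finset.sum_empty, Finset.sum_empty, h0]
  | insert a s ha ih => rw [Finset.sum_insert ha, Finset.sum_insert ha, hadd, ih]

theorem evl_cmap' {M M' : Type} [AddCommGroup M] [AddCommGroup M'] (f : M →+ M') (m : M) :
    evl (cmap V f) m = evl (𝟙 _) (f m) := by
  have h := evl_cmap (V := V) f (𝟙 _) m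
  rwa [Category.comp_id] at h

theorem id_eq_sum (r : ℕ) : 𝟙 (EtCoh.const V (Fin r → ℤ)) =
    ∑ i : Fin r, cmap V (Pi.evalAddMonoidHom (fun _ : Fin r => ℤ) i) ≫
      cmap V (AddMonoidHom.single (fun _ : Fin r => ℤ) i) := by
  refine hom_ext fun m => ?_
  rw [evl_sum]
  have h1 : ∀ i : Fin r, evl (cmap V (Pi.evalAddMonoidHom (fun _ : Fin r => ℤ) i) ≫
      cmap V (AddMonoidHom.single (fun _ : Fin r => ℤ) i)) m = evl (𝟙 _) (Pi.single i (m i)) := by
    intro i
    rw [evl_cmap, evl_cmap']
    rfl
  rw [Finset.sum_congr rfl fun i _ => h1 i, ← map_sum, Finset.univ_sum_single]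

/-- `p`-torsion of `Ext^q(P, ℤ^r)`. -/
theorem noTors_pi {P : EtCoh.Ab V} (p q r : ℕ)
    (hZ : ∀ y : Ext P (EtCoh.const V ℤ) q, p • y = 0 → y = 0)
    (x : Ext P (EtCoh.const V (Fin r → ℤ)) q) (hx : p • x = 0) : x = 0 := by
  have h1 : x = ExtTwist.post (𝟙 _) q x := (ExtTwist.post_id q x).symm
  rw [id_eq_sum] at h1
  have hadd : ∀ (s : Finset (Fin r)) (f : Fin r → (EtCoh.const V (Fin r → ℤ) ⟶ EtCoh.const V (Fin r → ℤ))),
      ExtTwist.post (∑ i ∈ s, f i) q x = ∑ i ∈ s, ExtTwist.post (f i) q x := by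
    classical
    intro s f
    induction s using Finset.induction_on with
    | empty => rw [Finset.sum_empty, Finset.sum_empty, ExtTwist.post_apply, Ext.mk₀_zero, Ext.comp_zero]
    | insert a s ha ih =>
      rw [Finset.sum_insert ha, Finset.sum_insert ha, ← ih, ExtTwist.post_apply, Ext.mk₀_add, Ext.comp_add]
      rfl
  rw [h1, hadd]
  refine Finset.sum_eq_zero fun i _ => ?_
  rw [ExtTwist.post_comp, hZ (ExtTwist.post (cmap V (Pi.evalAddMonoidHom (fun _ : Fin r => ℤ) i)) q x)
    (by rw [← map_nsmul, hx, map_zero]), map_zero]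

end Sum

section FieldTors

variable {K : Type u} [Field K] {G : EtCoh.Ab (Spec (CommRingCat.of K))}

/-- `p`-torsion of `Ext^q(P, G)` for a constant sheaf `G` with free finitely generated value. -/
theorem noTors_of_split (h : Split K G) (hfin : Module.Finite ℤ (G.obj.obj (op (etObj K K))))
    (hfree : Module.Free ℤ (G.obj.obj (op (etObj K K)))) {P : EtCoh.Ab (Spec (CommRingCat.of K))} (p q : ℕ)
    (hZ : ∀ y : Ext P (EtCoh.const _ ℤ) q, p • y = 0 → y = 0)
    (x : Ext P G q) (hx : p • x = 0) : x = 0 := by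
  obtain ⟨e⟩ := nonempty_constIso G h
    (Module.finBasis ℤ (G.obj.obj (op (etObj K K)))).equivFun.symm.toAddEquiv
  have h1 := noTors_pi p q _ hZ (ExtTwist.post e.inv q x) (by rw [← map_nsmul, hx, map_zero])
  have h2 : ExtTwist.post e.hom q (ExtTwist.post e.inv q x) = x := by
    rw [← ExtTwist.post_comp, Iso.inv_hom_id, ExtTwist.post_id]
  rw [← h2, h1, map_zero]

end FieldTors

end Groth.Agent.Dix.K109.ConstGen
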