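import Groth.Agent.Dix.K109.Scd
import Groth.Agent.Etbc.H226.NfCd
import Groth.Agent.HLoc2.K775.Tors
import Groth.Agent.TateLoc.K809.Les

/-!
# Algebraic extensions of `ℚ`: `cd_ℓ ≤ 2` and `H³(K, F) = 0`

* `subsingleton_H3`: `H³(K, F) = 0` for lattices `F` over a non-orderable algebraic extension `K` of `ℚ`;
* `subsingleton_H3_fin`: from lattices to all sheaves with finitely generated stalk.
-/

set_option autoImplicit false
universe u
open AlgebraicGeometry CategoryTheory CategoryTheory.Limits Polynomial Opposite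

namespace Groth.Agent.Dix.K109.NfCyc

open Groth.Agent.Etbc Groth.Agent.CurvesA.EtFieldFin Groth.Agent.CurvesA.EtFieldObj

/-- Algebraic extensions of `ℚ` containing all `ℓ`-power roots of unity have `cd_ℓ ≤ 1`. -/
theorem cohDimLEAt_one (ℓ : ℕ) [Fact ℓ.Prime] (L : Type u) [Field L] [CharZero L] [Algebra.IsAlgebraic ℚ L]
    (h : ∀ n, ∃ ζ : L, IsPrimitiveRoot ζ (ℓ ^ n)) : _root_.Dix.CohDimLEAt (Spec (CommRingCat.of L)) ℓ 1 := by
  refine H226.NfCd.nf4 L ℓ (by simpa using h 1) ?_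
  intro E M _ _ _ _ _ _ _ hdeg
  have : CharZero E := charZero_of_injective_algebraMap (algebraMap L E).injective
  have hr : ∀ n, ∃ ζ : E, IsPrimitiveRoot ζ (ℓ ^ n) := by
    intro n
    obtain ⟨ζ, hζ⟩ := h n
    exact ⟨algebraMap L E ζ, hζ.map_of_injective (algebraMap L E).injective⟩
  have h6 : IsScalarTower ℚ L E := inferInstance
  have : Algebra.IsAlgebraic ℚ E := Algebra.IsAlgebraic.trans ℚ L E
  exact H236.NormSurj.norm_surjective E M ℓ (by simpa using hr 1) hdeg fun b =>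
    H224.NfEFinal.E ℓ E hr b

theorem cycCd (ℓ : ℕ) [Fact ℓ.Prime] (K : Type u) [Field K] [CharZero K] [Algebra.IsAlgebraic ℚ K] :
    Scd.CycCd K ℓ := fun L _ _ _ hL => by
  have : CharZero L := charZero_of_injective_algebraMap (algebraMap K L).injective
  have h6 : IsScalarTower ℚ K L := inferInstance
  have : Algebra.IsAlgebraic ℚ L := Algebra.IsAlgebraic.trans ℚ K L
  exact cohDimLEAt_one ℓ L hL

/-- `cd_ℓ(K) ≤ 2` for algebraic extensions of `ℚ`, `ℓ` odd or `K` not orderable. -/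
theorem cohDimLEAt_two (ℓ : ℕ) [Fact ℓ.Prime] (K : Type u) [Field K] [CharZero K] [Algebra.IsAlgebraic ℚ K]
    (hord : ℓ ≠ 2 ∨ ¬ ∃ _ : LinearOrder K, IsStrictOrderedRing K) :
    _root_.Dix.CohDimLEAt (Spec (CommRingCat.of K)) ℓ 2 := by
  obtain ⟨K', Kinf, _, _, _, _, _, _, hfin, _, _, hζ, hi, hroots, hgen, halg⟩ := H236.G2Cond.exists_tower K ℓ
  have hℓ0 : ℓ ≠ 0 := (Fact.out : ℓ.Prime).ne_zero
  refine H226.NfCd.serre K K' ℓ Fact.out (by exact_mod_cast hℓ0) 2 ?_ hord
  exact H226.NfCd.nf5 ℓ 1 K' Kinf hζ hi hroots hgen (cycCd ℓ K Kinf hroots)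

/-- **`H³(K, F) = 0`** for lattices `F` over a non-orderable algebraic extension of `ℚ`. -/
theorem subsingleton_H3 (K : Type u) [Field K] [CharZero K] [Algebra.IsAlgebraic ℚ K]
    (hord : ¬ ∃ _ : LinearOrder K, IsStrictOrderedRing K) {F : EtCoh.Ab (Spec (CommRingCat.of K))}
    (hF : Fin' F)
    (htf : ∀ (n : ℕ) (U : (Spec (CommRingCat.of K)).Etale) (s : EtCoh.sect F U), n ≠ 0 → n • s = 0 → s = 0) :
    Subsingleton (EtCoh.H (Spec (CommRingCat.of K)) F 3) :=
  Scd.subsingleton_H3 K hF htf fun p hp => by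
    have : Fact p.Prime := ⟨hp⟩
    exact Or.inr ⟨by exact_mod_cast hp.ne_zero, cohDimLEAt_two p K (Or.inr hord), cycCd p K⟩

section Fin

variable {K : Type u} [Field K] {F : EtCoh.Ab (Spec (CommRingCat.of K))}

/-- The order of the torsion sections is bounded. -/
theorem exists_exp (hF : Fin' F) : ∃ t : ℕ, t ≠ 0 ∧ ∀ (U : (Spec (CommRingCat.of K)).Etale)
    (s : EtCoh.sect F U) (n : ℕ), n ≠ 0 → n • s = 0 → t • s = 0 := by
  obtain ⟨N, _, _, _, _, hsp, hfin⟩ := hF
  have h1 : Finite (AddCommGroup.torsion (F.obj.obj (op (etObj K N)))) := by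
    have : AddGroup.FG (AddCommGroup.torsion (F.obj.obj (op (etObj K N)))) := by
      have h2 : Module.Finite ℤ (AddSubgroup.toIntSubmodule (AddCommGroup.torsion (F.obj.obj (op (etObj K N))))) :=
        inferInstance
      exact Module.Finite.iff_addGroup_fg.1 h2
    exact AddCommGroup.finite_of_fg_torsion _ fun x => by
      obtain ⟨n, hn, h⟩ := isOfFinAddOrder_iff_nsmul_eq_zero.1 x.2
      exact isOfFinAddOrder_iff_nsmul_eq_zero.2 ⟨n, hn, Subtype.ext h⟩
  let t := Nat.card (AddCommGroup.torsion (F.obj.obj (op (etObj K N))))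
  have ht : t ≠ 0 := Nat.card_pos.ne'
  refine ⟨t, ht, fun U s n hn hs => ?_⟩
  apply Groth.Agent.CurvesA.EtFieldDesc.sect_ext
  intro N' _ _ _ _ b
  rw [map_zero]
  obtain ⟨M, _, _, _, _, ⟨φ⟩, ⟨ψ⟩⟩ := exists_galois (K := K) N' N
  apply Groth.Agent.CurvesA.EtFieldFin.map_injective F (etMap φ)
  rw [map_zero]
  obtain ⟨a₀, ha₀⟩ := hsp M (etMap ψ) (F.obj.map (etMap φ).op (F.obj.map b.op s))
  have h2 : n • a₀ = 0 := by
    apply Groth.Agent.CurvesA.EtFieldFin.map_injective F (etMap ψ)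
    rw [map_nsmul, ha₀, ← map_nsmul, ← map_nsmul, hs, map_zero, map_zero, map_zero]
  have h3 : t • a₀ = 0 := by
    have h4 : a₀ ∈ AddCommGroup.torsion (F.obj.obj (op (etObj K N))) :=
      isOfFinAddOrder_iff_nsmul_eq_zero.2 ⟨n, Nat.pos_of_ne_zero hn, h2⟩
    exact congrArg Subtype.val (card_nsmul_eq_zero' (x := (⟨a₀, h4⟩ : AddCommGroup.torsion (F.obj.obj (op (etObj K N))))))
  rw [map_nsmul, map_nsmul, ← ha₀, ← map_nsmul, h3, map_zero]

/-- **From lattices to sheaves with finitely generated stalk.** -/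
theorem subsingleton_H3_fin (hcd : ∀ ℓ : ℕ, ℓ.Prime → _root_.Dix.CohDimLEAt (Spec (CommRingCat.of K)) ℓ 2)
    (h3 : ∀ G : EtCoh.Ab (Spec (CommRingCat.of K)), Fin' G →
      (∀ (n : ℕ) (U : (Spec (CommRingCat.of K)).Etale) (s : EtCoh.sect G U), n ≠ 0 → n • s = 0 → s = 0) →
      Subsingleton (EtCoh.H (Spec (CommRingCat.of K)) G 3)) (hF : Fin' F) :
    Subsingleton (EtCoh.H (Spec (CommRingCat.of K)) F 3) := by
  obtain ⟨t, ht, htors⟩ := exists_exp hF
  let φ : F ⟶ F := t • 𝟙 F
  have hφ : ∀ (U : (Spec (CommRingCat.of K)).Etale) (s : EtCoh.sect F U), φ.hom.app (op U) s = t • s :=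
    fun U s => by
      have h1 := ConstEl.hom_app_nsmul t (𝟙 F) U s
      exact h1
  let S : ShortComplex (EtCoh.Ab (Spec (CommRingCat.of K))) :=
    ShortComplex.mk (kernel.ι φ) (Abelian.factorThruImage φ) (by
      rw [← cancel_mono (Abelian.image.ι φ), Category.assoc, Abelian.image.fac, kernel.condition, Limits.zero_comp])
  have hS : S.ShortExact :=
    { exact := by
        have h1 : (ShortComplex.mk (kernel.ι φ) φ (kernel.condition φ)).Exact := ShortComplex.exact_kernel φ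
        let m : S ⟶ ShortComplex.mk (kernel.ι φ) φ (kernel.condition φ) :=
          { τ₁ := 𝟙 _
            τ₂ := 𝟙 _
            τ₃ := Abelian.image.ι φ
            comm₁₂ := by
              change 𝟙 _ ≫ kernel.ι φ = kernel.ι φ ≫ 𝟙 _
              rw [Category.id_comp, Category.comp_id]
            comm₂₃ := by
              change 𝟙 _ ≫ φ = Abelian.factorThruImage φ ≫ Abelian.image.ι φ
              rw [Category.id_comp, Abelian.image.fac] }
        have i1 : Epi m.τ₁ := inferInstanceAs (Epi (𝟙 _))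
        have i2 : IsIso m.τ₂ := inferInstanceAs (IsIso (𝟙 _))
        have i3 : Mono m.τ₃ := inferInstanceAs (Mono (Abelian.image.ι φ))
        exact (ShortComplex.exact_iff_of_epi_of_isIso_of_mono m).2 h1
      mono_f := inferInstanceAs (Mono (kernel.ι φ))
      epi_g := inferInstanceAs (Epi (Abelian.factorThruImage φ)) }
  refine K809.Les.subsingleton_mid _ hS ?_ ?_
  · refine K775.Tors.subsingleton_of_killedBy hcd t ht (kernel φ) ?_ 3 (by omega)
    rw [Groth.Agent.Sga5.EtKilled.killedBy_iff]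
    rw [← cancel_mono (kernel.ι φ), Limits.zero_comp, Preadditive.nsmul_comp, Category.id_comp]
    have h1 := kernel.condition φ
    rwa [Preadditive.comp_nsmul, Category.comp_id] at h1
  · refine h3 _ (Fin'.of_mono (Abelian.image.ι φ) hF) ?_
    intro n U s hn hs
    apply Groth.Agent.CurvesA.EtFieldDesc.sect_ext
    intro N' _ _ _ _ b
    rw [map_zero]
    obtain ⟨N, _, _, _, _, f, a, ha⟩ := Groth.Agent.CurvesA.EtFieldFin.exists_lift (Abelian.factorThruImage φ)
      ((Abelian.image φ).obj.map b.op s)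
    apply Groth.Agent.CurvesA.EtFieldFin.map_injective _ f
    rw [map_zero, ← ha]
    have hι : ∀ (W : (Spec (CommRingCat.of K)).Etale) (c : EtCoh.sect F W),
        (Abelian.image.ι φ).hom.app (op W) ((Abelian.factorThruImage φ).hom.app (op W) c) = t • c := by
      intro W c
      rw [← hφ]
      have h1 := congrArg (fun ψ : F ⟶ F => ψ.hom.app (op W) c) (Abelian.image.fac φ)
      exact h1
    apply Groth.Agent.CurvesA.EtFieldFin.app_injective (Abelian.image.ι φ)
    rw [hι, map_zero]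
    refine htors _ a (n * t) (mul_ne_zero hn ht) ?_
    rw [mul_smul, ← hι, ha, ← map_nsmul, ← map_nsmul, ← map_nsmul, hs, map_zero, map_zero, map_zero]

end Fin

end Groth.Agent.Dix.K109.NfCyc
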