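import Groth.Agent.Etbc.H201.RealClosed

/-!
# A criterion for real closed fields

`K` orderable without finite extensions of odd degree, such that `a` or `-a` is a square for all `a`: then `K(√-1)` is
separably closed.
-/

set_option autoImplicit false

universe u v

open Polynomial

namespace Groth.Agent.Dix.K109.RealWk

open Groth.Agent.Etbc.H201.RealOdd Groth.Agent.Etbc.H201.RealMax Groth.Agent.Etbc.H201.RealClosed

/-- Orderable fields without odd extensions, in which `a` or `-a` is a square. -/
structure Wk (R : Type u) [Field R] : Prop where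
  real : ¬ IsSumSq (-1 : R)
  odd : ∀ (L : Type u) [Field L] [Algebra R L] [FiniteDimensional R L], Odd (Module.finrank R L) →
    Module.finrank R L = 1
  sq : ∀ a : R, IsSquare a ∨ IsSquare (-a)

variable {R : Type u} [Field R] (h : Wk R)

include h

theorem isSquare_add (x y : R) : IsSquare (x * x + y * y) := by
  rcases h.sq (x * x + y * y) with h1 | ⟨t, ht⟩
  · exact h1
  · have h2 := eq_zero_of_add h.real ((IsSumSq.mul_self x).add (IsSumSq.mul_self y)) (IsSumSq.mul_self t)
      (by linear_combination -ht)
    rw [h2]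
    exact IsSquare.zero

theorem not_isSquare_neg_one : ¬ IsSquare (-1 : R) := fun hc => h.real hc.isSumSq

theorem fact_neg_one : Fact (∀ r : R, r ^ 2 ≠ -1 + 0 * r) :=
  ⟨fun r hr => not_isSquare_neg_one h ⟨r, by linear_combination -hr⟩⟩

theorem isSquare_quad (z : QuadraticAlgebra R (-1 : R) 0) : IsSquare z := by
  have := charZero h.real
  obtain ⟨x, y⟩ := z
  suffices hs : ∃ u v : R, x = u * u - v * v ∧ y = 2 * (u * v) by
    obtain ⟨u, v, rfl, rfl⟩ := hs
    refine ⟨⟨u, v⟩, ?_⟩
    ext
    · simp
      ring
    · simp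
      ring
  by_cases hy : y = 0
  · subst hy
    rcases h.sq x with ⟨w, hw⟩ | ⟨w, hw⟩
    · exact ⟨w, 0, by rw [hw]; ring, by ring⟩
    · exact ⟨0, w, by linear_combination -hw, by ring⟩
  obtain ⟨s, hs⟩ := isSquare_add h x y
  rcases h.sq ((x + s) / 2) with ⟨w, hw⟩ | ⟨w, hw⟩
  · have hw0 : w ≠ 0 := by
      rintro rfl
      have h1 : x + s = 0 := by linear_combination 2 * hw
      have h2 : y * y = 0 := by linear_combination hs + (s - x) * h1
      exact hy (mul_self_eq_zero.1 h2)
    refine ⟨w, y / (2 * w), ?_, by field_simp⟩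
    have h3 : x + s = 2 * (w * w) := by linear_combination 2 * hw
    field_simp
    have h4 : s = 2 * (w * w) - x := by linear_combination h3
    rw [h4] at hs
    linear_combination hs
  · have hw0 : w ≠ 0 := by
      rintro rfl
      have h1 : x + s = 0 := by linear_combination -2 * hw
      have h2 : y * y = 0 := by linear_combination hs + (s - x) * h1
      exact hy (mul_self_eq_zero.1 h2)
    refine ⟨y / (2 * w), w, ?_, by field_simp⟩
    have h3 : x + s = -2 * (w * w) := by linear_combination -2 * hw
    field_simp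
    have h4 : s = -2 * (w * w) - x := by linear_combination h3
    rw [h4] at hs
    linear_combination -hs

theorem finrank_pow_two (N : Type u) [Field N] [Algebra R N] [FiniteDimensional R N]
    [IsGalois R N] : ∃ n, Module.finrank R N = 2 ^ n := by
  obtain ⟨L', ⟨n, hn⟩, h2⟩ :=
    Groth.Agent.CurvesA.GalStep.exists_sylow_field R N 2 Nat.prime_two
  have h1 : Module.finrank R L' = 1 :=
    h.odd L' (by rwa [← Nat.not_even_iff_odd, even_iff_two_dvd])
  refine ⟨n, ?_⟩
  rw [← Module.finrank_mul_finrank R L' N, h1, one_mul, ← hn, IsGalois.card_aut_eq_finrank]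

/-- The field `R(√-1)`. -/
theorem finrank_quad_eq_one [Fact (∀ r : R, r ^ 2 ≠ -1 + 0 * r)] (M : Type u) [Field M]
    [Algebra (QuadraticAlgebra R (-1 : R) 0) M] [FiniteDimensional (QuadraticAlgebra R (-1 : R) 0) M] :
    Module.finrank (QuadraticAlgebra R (-1 : R) 0) M = 1 := by
  have hR0 := charZero h.real
  let C := QuadraticAlgebra R (-1 : R) 0
  let _ : Algebra R M := ((algebraMap C M).comp (algebraMap R C)).toAlgebra
  have : IsScalarTower R C M := IsScalarTower.of_algebraMap_eq fun _ => rfl
  have : FiniteDimensional R M := FiniteDimensional.trans R C M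
  let N := IntermediateField.normalClosure R M (AlgebraicClosure M)
  have : Algebra.IsAlgebraic R M := inferInstance
  let _ : Algebra C N := ((algebraMap M N).comp (algebraMap C M)).toAlgebra
  have : IsScalarTower C M N := IsScalarTower.of_algebraMap_eq fun _ => rfl
  have : IsScalarTower R C N := IsScalarTower.of_algebraMap_eq fun x => by
    rw [IsScalarTower.algebraMap_apply R M N, IsScalarTower.algebraMap_apply R C M]
    rfl
  have : FiniteDimensional C N := FiniteDimensional.right R C N
  have : IsGalois R N := ⟨⟩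
  have : IsGalois C N := IsGalois.tower_top_of_isGalois R C N
  obtain ⟨n, hn⟩ := finrank_pow_two h N
  have hC2 : Module.finrank R C = 2 := QuadraticAlgebra.finrank_eq_two (-1) 0
  have hmul : 2 * Module.finrank C N = 2 ^ n := by
    rw [← hn, ← hC2, Module.finrank_mul_finrank]
  have hN1 : Module.finrank C N = 1 := by
    rcases n with _ | _ | m
    · omega
    · omega
    · exfalso
      refine card_ne (C := C) (isSquare_quad h) m N ?_
      rw [IsGalois.card_aut_eq_finrank]
      rw [pow_succ] at hmul
      omega
  have hdvd : Module.finrank C M ∣ Module.finrank C N := ⟨_, (Module.finrank_mul_finrank C M N).symm⟩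
  rw [hN1] at hdvd
  exact Nat.dvd_one.1 hdvd

theorem isSepClosed_quad [Fact (∀ r : R, r ^ 2 ≠ -1 + 0 * r)] :
    IsSepClosed (QuadraticAlgebra R (-1 : R) 0) := by
  refine IsSepClosed.of_exists_root _ fun p hp hirr _ => ?_
  have : Fact (Irreducible p) := ⟨hirr⟩
  have : FiniteDimensional (QuadraticAlgebra R (-1 : R) 0) (AdjoinRoot p) :=
    (AdjoinRoot.powerBasis hirr.ne_zero).finite
  have h1 := finrank_quad_eq_one h (AdjoinRoot p)
  rw [(AdjoinRoot.powerBasis hirr.ne_zero).finrank, AdjoinRoot.powerBasis_dim] at h1
  refine exists_root_of_degree_eq_one ?_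
  rw [degree_eq_natDegree hirr.ne_zero, h1]
  rfl

/-- The separable closure has degree two. -/
theorem finrank_sepClosure (Ω : Type u) [Field Ω] [Algebra R Ω] [IsSepClosure R Ω] : Module.finrank R Ω = 2 := by
  have hR0 := charZero h.real
  have := fact_neg_one h
  have h1 : IsSepClosed (QuadraticAlgebra R (-1 : R) 0) := isSepClosed_quad h
  have h2 : Module.finrank R (QuadraticAlgebra R (-1 : R) 0) = 2 := QuadraticAlgebra.finrank_eq_two (-1) 0
  have h3 : FiniteDimensional R (QuadraticAlgebra R (-1 : R) 0) := FiniteDimensional.of_finrank_pos (by omega)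
  have h4 : IsSepClosure R (QuadraticAlgebra R (-1 : R) 0) := ⟨h1, inferInstance⟩
  rw [← h2]
  exact (IsSepClosure.equiv R Ω (QuadraticAlgebra R (-1 : R) 0)).toLinearEquiv.finrank_eq

end Groth.Agent.Dix.K109.RealWk
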