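import Groth.Agent.Dix.K109.QuadStep
import Groth.Agent.Dix.K109.RealWk
import Groth.Agent.Dix.K109.NfCyc

/-!
# Minimal classes in `H³` of algebraic extensions of `ℚ`

`core`: if `0 ≠ y ∈ H³(K, F)` (`F` a lattice) dies on all non-trivial finite extensions of `K` then `K` is real closed.
-/

set_option autoImplicit false
universe u
open CategoryTheory CategoryTheory.Limits AlgebraicGeometry Opposite Abelian
open scoped Groth.Agent.Etcore.EtInst
open Groth.Agent.Etcore.EtInst

namespace Groth.Agent.Dix.K109.Core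

open Groth.Agent.CurvesA Groth.Agent.CurvesA.EtFieldObj Groth.Agent.CurvesA.EtFieldDesc
  Groth.Agent.CurvesA.EtFieldTr Groth.Agent.CurvesA.EtFieldFin Groth.Agent.CurvesA.EtFieldTors
  Groth.Agent.CurvesA.ExtMid QuadStep
open Groth.Agent.Etcore.HpullCalc

attribute [local instance] Groth.Agent.S0101.result

section QExt

variable (K : Type u) [Field K] [CharZero K]

/-- The quadratic extension `K(√a)`. -/
theorem exists_qext (a : Kˣ) (ha : ¬ IsSquare (a : K)) :
    ∃ (L : Type u) (_ : Field L) (_ : Algebra K L) (_ : FiniteDimensional K L) (_ : IsGalois K L),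
      Nonempty (QExt K L a) ∧ Module.finrank K L = 2 := by
  have : Fact (∀ r : K, r ^ 2 ≠ (a : K) + 0 * r) := ⟨fun r hr => ha ⟨r, by linear_combination -hr⟩⟩
  let L := QuadraticAlgebra K (a : K) 0
  have hrk : Module.finrank K L = 2 := QuadraticAlgebra.finrank_eq_two _ _
  have hfd : FiniteDimensional K L := FiniteDimensional.of_finrank_pos (by omega)
  have hdeg : Algebra.IsQuadraticExtension K L := ⟨hrk⟩
  have hgal : IsGalois K L := inferInstance
  obtain ⟨b, hbb⟩ : ∃ b : L, b * b = algebraMap K L (a : K) :=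
    ⟨QuadraticAlgebra.omega, by
      rw [QuadraticAlgebra.omega_mul_omega_eq_mk]
      rfl⟩
  have h0 : CharZero L := charZero_of_injective_algebraMap (algebraMap K L).injective
  have hb0 : b ≠ 0 := by
    rintro h0
    rw [h0, mul_zero] at hbb
    exact a.ne_zero ((algebraMap K L).injective (hbb.symm.trans (map_zero _).symm))
  have hbK : ∀ c : K, algebraMap K L c ≠ b := by
    intro c hc
    apply ha
    refine ⟨c, (algebraMap K L).injective ?_⟩
    rw [map_mul, hc, hbb]
  have hσb : ∀ g : L ≃ₐ[K] L, g b = b ∨ g b = -b := by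
    intro g
    have h1 : g b * g b = b * b := by rw [← map_mul, hbb, AlgEquiv.commutes]
    exact mul_self_eq_mul_self_iff.1 h1
  obtain ⟨σ, hσ⟩ : ∃ σ : L ≃ₐ[K] L, σ b ≠ b := by
    by_contra hc
    push Not at hc
    obtain ⟨c, hc⟩ := (IsGalois.mem_range_algebraMap_iff_fixed b).2 hc
    exact hbK c hc
  have hσ1 : σ ≠ 1 := by
    rintro rfl
    exact hσ rfl
  have hcard : Nat.card (L ≃ₐ[K] L) = 2 := by rw [IsGalois.card_aut_eq_finrank, hrk]
  have hord : orderOf σ = 2 := by
    have h1 : orderOf σ ∣ 2 := hcard ▸ orderOf_dvd_natCard σ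
    rcases (Nat.dvd_prime Nat.prime_two).1 h1 with h | h
    · exact absurd (orderOf_eq_one_iff.1 h) hσ1
    · exact h
  refine ⟨L, inferInstance, inferInstance, hfd, hgal, ⟨⟨σ, ?_, hord, Units.mk0 b hb0, ?_, ?_⟩⟩, hrk⟩
  · intro g
    have hzp : ∀ g : L ≃ₐ[K] L, g ∈ Subgroup.zpowers σ := by
      intro g
      have h1 : Subgroup.zpowers σ = ⊤ := by
        apply Subgroup.eq_top_of_card_eq
        rw [Nat.card_zpowers, hord, hcard]
      rw [h1]
      exact Subgroup.mem_top g
    obtain ⟨i, hi⟩ := (mem_powers_iff_mem_zpowers (x := σ)).2 (hzp g)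
    exact ⟨i, hi.symm⟩
  · apply Units.ext
    exact hbb
  · apply Units.ext
    exact (hσb σ).resolve_left hσ

end QExt

section Restr

variable {K : Type u} [Field K] {F : EtCoh.Ab (Spec (CommRingCat.of K))}

/-- Restriction of lattices. -/
theorem fin_R (L : Type u) [Field L] [Algebra K L] [FiniteDimensional K L] [Algebra.IsSeparable K L]
    (hF : Fin' F) : Fin' (R L F) := by
  obtain ⟨N, _, _, _, _, hN, hNfin⟩ := hF
  obtain ⟨M, _, _, _, _, ⟨φ⟩, ⟨ψ⟩⟩ := exists_galois (K := K) N L
  have hM : Split M F := Split.mono (etMap φ) hN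
  have hMfin : Module.Finite ℤ (F.obj.obj (op (etObj K M))) := by
    have hsurj := hN M (etMap φ)
    exact Module.Finite.of_surjective ((F.obj.map (etMap φ).op).hom.toIntLinearMap) hsurj
  let _ : Algebra L M := ψ.toRingHom.toAlgebra
  have : IsScalarTower K L M := IsScalarTower.of_algebraMap_eq fun r => (ψ.commutes r).symm
  have : FiniteDimensional L M := Module.Finite.right K L M
  have : IsGalois L M := IsGalois.tower_top_of_isGalois K L M
  have hsR : Split M (R L F) := split_R hM
  let e0 : F.obj.obj (op (etObj K M)) →ₗ[ℤ] (R L F).obj.obj (op (etObj L M)) :=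
    (F.obj.map (compIso (K := K) (L := L) M).hom.op).hom.toIntLinearMap
  have he0 : Function.Bijective e0 := bijective_iso F (compIso (K := K) (L := L) M)
  exact ⟨M, inferInstance, inferInstance, inferInstance, inferInstance, hsR, Module.Finite.of_surjective e0 he0.2⟩

theorem tf_R (L : Type u) [Field L] [Algebra K L] [FiniteDimensional K L] [Algebra.IsSeparable K L]
    (htf : ∀ (n : ℕ) (U : (Spec (CommRingCat.of K)).Etale) (s : EtCoh.sect F U), n ≠ 0 → n • s = 0 → s = 0)
    (n : ℕ) (U : (Spec (CommRingCat.of L)).Etale) (s : EtCoh.sect (R L F) U) (hn : n ≠ 0) (hs : n • s = 0) :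
    s = 0 :=
  htf n ((EtShriek.compEtale (etObj K L).hom).obj U) s hn hs

end Restr

section Van

variable (K : Type u) [Field K] [CharZero K] [Algebra.IsAlgebraic ℚ K] {F : EtCoh.Ab (Spec (CommRingCat.of K))}
  (hord : ¬ ∃ _ : LinearOrder K, IsStrictOrderedRing K)
  (hF : Fin' F) (htf : ∀ (n : ℕ) (U : (Spec (CommRingCat.of K)).Etale) (s : EtCoh.sect F U),
    n ≠ 0 → n • s = 0 → s = 0)

include hord hF htf in
theorem van_three : Van (ZL K K) 3 F := fun x =>
  (EtFieldH.HEquiv F 3).symm.injective ((NfCyc.subsingleton_H3 K hord hF htf).elim _ _)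

include hord htf in
theorem van_four : Van (ZL K K) 4 F := by
  have key : ∀ p : ℕ, p.Prime → ∀ z : Ext (ZL K K) F 4, p • z = 0 → z = 0 := by
    intro p hp z hz
    have : Fact p.Prime := ⟨hp⟩
    exact Scd.noTors_of_coker p 3 (Scd.mono_nsmul htf p hp.ne_zero)
      (Scd.van_coker K p 3 2 (by norm_num) (NfCyc.cohDimLEAt_two p K (Or.inr hord))) z hz
  intro y
  obtain ⟨n, hn, hny⟩ := K773.EtExp.exists_nsmul_ext F 3 K y
  induction n using Nat.recOnMul generalizing y with
  | zero => omega
  | one => rwa [one_smul] at hny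
  | prime p hp => exact key p hp y hny
  | mul a b iha ihb =>
    have ha : 0 < a := Nat.pos_of_ne_zero (by rintro rfl; simp at hn)
    have hb : 0 < b := Nat.pos_of_ne_zero (by rintro rfl; simp at hn)
    apply ihb y hb
    exact iha (b • y) ha (by rw [smul_smul, hny])

end Van

section Transfer

variable {K : Type u} [Field K] {F : EtCoh.Ab (Spec (CommRingCat.of K))}

/-- A class which dies on `L` is killed by `[L : K]`. -/
theorem nsmul_of_hp_eq_zero (L : Type u) [Field L] [Algebra K L] [FiniteDimensional K L] [Algebra.IsSeparable K L]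
    (n : ℕ) (y : HH (Spec (CommRingCat.of K)) F n) (hy : hp (etObj K L).hom F n y = 0) :
    Module.finrank K L • y = 0 := by
  have h1 : (Ext.mk₀ (eps K L)).comp y (zero_add n) = 0 :=
    AdjKill.comp_eq_zero (etObj K L).hom (etObj L L) (etObj K L) (EtFieldTors.compIso (K := K) (L := L) L) y hy
      (zero_add n) (Ext.mk₀ (eps K L))
  have h2 : ExtStep.res (Zm (can K K L)) F n ((Ext.mk₀ (cI K).hom).comp y (zero_add n)) = 0 := by
    rw [ExtStep.res_apply, Ext.mk₀_comp_mk₀_assoc]
    exact h1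
  have h3 := K773.EtExp.nsmul_of_res_zero F n L _ h2
  have h4 := congrArg (fun z => (Ext.mk₀ (cI K).inv).comp z (zero_add n)) h3
  beta_reduce at h4
  rwa [← ExtStep.res_apply, map_nsmul, ExtStep.res_apply, Ext.comp_zero, Ext.mk₀_comp_mk₀_assoc, Iso.inv_hom_id,
    Ext.mk₀_id_comp] at h4

end Transfer

/-- **Minimal classes live on real closed fields.** -/
theorem core (K : Type u) [Field K] [CharZero K] [Algebra.IsAlgebraic ℚ K]
    {F : EtCoh.Ab (Spec (CommRingCat.of K))} (hF : Fin' F)
    (htf : ∀ (n : ℕ) (U : (Spec (CommRingCat.of K)).Etale) (s : EtCoh.sect F U), n ≠ 0 → n • s = 0 → s = 0)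
    (y : HH (Spec (CommRingCat.of K)) F 3) (hy : y ≠ 0)
    (hext : ∀ (L : Type u) [Field L] [Algebra K L] [FiniteDimensional K L], Module.finrank K L ≠ 1 →
      hp (Spec.map (CommRingCat.ofHom (algebraMap K L))) F 3 y = 0) : RealWk.Wk K := by
  have h2 : (2 : K) ≠ 0 := two_ne_zero
  -- K is orderable
  have hreal : ¬ IsSumSq (-1 : K) := by
    intro hc
    apply hy
    have hord : ¬ ∃ _ : LinearOrder K, IsStrictOrderedRing K := by
      rintro ⟨_, _⟩
      have h1 : (0 : K) ≤ -1 := hc.nonneg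
      linarith [zero_lt_one (α := K)]
    have h3 := NfCyc.subsingleton_H3 K hord hF htf
    exact h3.elim _ _
  have hneg : ¬ IsSquare (((-1 : Kˣ) : K)) := fun hc => hreal (by simpa using hc.isSumSq)
  obtain ⟨Li, _, _, _, _, ⟨Ei⟩, hrki⟩ := exists_qext K (-1) hneg
  -- 2 y = 0
  have h2y : 2 • y = 0 := by
    have h1 := nsmul_of_hp_eq_zero Li 3 y (hext Li (by omega))
    rwa [hrki] at h1
  -- the cohomology of K(i)
  have hLi0 : CharZero Li := charZero_of_injective_algebraMap (algebraMap K Li).injective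
  have hLi1 : IsScalarTower ℚ K Li := inferInstance
  have hLi2 : Algebra.IsAlgebraic ℚ Li := Algebra.IsAlgebraic.trans ℚ K Li
  have hordi : ¬ ∃ _ : LinearOrder Li, IsStrictOrderedRing Li := by
    rintro ⟨_, _⟩
    have h1 : ((Ei.b : Li)) * Ei.b = -1 := by
      have h3 := congrArg (fun x : Liˣ => (x : Li)) Ei.hb
      simpa using h3
    nlinarith [mul_self_nonneg (Ei.b : Li), zero_lt_one (α := Li)]
  have hv3 : Van (ZL K Li) 3 F := van_ZL_iff Li F 3 (van_three Li hordi (fin_R Li hF) (tf_R Li htf))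
  have hv4 : Van (ZL K Li) (3 + 1) F := van_ZL_iff Li F 4 (van_four Li hordi (tf_R Li htf))
  refine ⟨hreal, ?_, ?_⟩
  · intro L _ _ _ hodd
    by_contra hne
    apply hy
    have h1 := nsmul_of_hp_eq_zero L 3 y (hext L hne)
    have h3 : addOrderOf y ∣ Module.finrank K L := addOrderOf_dvd_of_nsmul_eq_zero h1
    have h4 : addOrderOf y ∣ 2 := addOrderOf_dvd_of_nsmul_eq_zero h2y
    have hcop : Nat.Coprime (Module.finrank K L) 2 := Nat.coprime_two_right.2 hodd
    exact AddMonoid.addOrderOf_eq_one_iff.1 (Nat.eq_one_of_dvd_coprimes hcop h3 h4)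
  · intro a
    by_contra hc
    push Not at hc
    obtain ⟨hc1, hc2⟩ := hc
    have ha0 : a ≠ 0 := by
      rintro rfl
      exact hc1 IsSquare.zero
    apply hy
    obtain ⟨L₁, _, _, _, _, ⟨E₁⟩, hrk₁⟩ := exists_qext K (Units.mk0 a ha0) hc1
    obtain ⟨L₂, _, _, _, _, ⟨E₂⟩, hrk₂⟩ := exists_qext K (-Units.mk0 a ha0) hc2
    exact eq_zero h2 E₁ E₂ Ei 3 hv3 hv4 y (hext L₁ (by omega)) (hext L₂ (by omega))

end Groth.Agent.Dix.K109.Core
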