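import Groth.Agent.Etbc.H231.CycloTower
import Mathlib.FieldTheory.IsAlgClosed.AlgebraicClosure
import Mathlib.RingTheory.RootsOfUnity.AlgebraicallyClosed

/-!
# The cyclotomic `p`-tower over an arbitrary field containing a primitive `p²`-th root of unity
-/

set_option autoImplicit false
universe u

open Polynomial IntermediateField

namespace Groth.Agent.Dix.K109.CycTow

open Groth.Agent.Etbc.H231.CycloTower

/-- The cyclotomic `p`-tower. -/
theorem exists_tower (p : ℕ) [Fact p.Prime] (K L : Type u) [Field K] [Field L] [Algebra K L]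
    (hprim : ∃ ζ : K, IsPrimitiveRoot ζ (p ^ 2))
    (hroots : ∀ n : ℕ, ∃ ζ : L, IsPrimitiveRoot ζ (p ^ n))
    (hgen : IntermediateField.adjoin K {z : L | ∃ n : ℕ, z ^ (p ^ n) = 1} = ⊤)
    (hK : ¬ ∀ n : ℕ, ∃ ζ : K, IsPrimitiveRoot ζ (p ^ n)) :
    ∃ (_ : Algebra.IsSeparable K L) (E : ℕ → IntermediateField K L) (σ : L ≃ₐ[K] L),
      Monotone E ∧ (∀ x : L, ∃ a, x ∈ E a) ∧ (∀ a, FiniteDimensional K (E a)) ∧
      (∀ a, IsGalois K (E a)) ∧ (∀ a, Module.finrank K (E a) = p ^ a) ∧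
      (∀ a, ∀ x ∈ E a, σ x ∈ E a) ∧
      (∀ a (g : E a ≃ₐ[K] E a), ∃ k : ℕ, ∀ x : E a, ((g x : E a) : L) = (σ ^ k) (x : L)) := by
  have hp : p.Prime := Fact.out
  -- `L` is Galois over `K`
  let S : Set ℕ := {n | ∃ k : ℕ, n = p ^ k}
  have hcyc : IsCyclotomicExtension S K (IntermediateField.adjoin K {b : L | ∃ n ∈ S, n ≠ 0 ∧ b ^ n = 1}) := by
    apply IntermediateField.isCyclotomicExtension_adjoin_of_exists_isPrimitiveRoot
    rintro _ ⟨k, rfl⟩ -
    exact hroots k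
  have hset : {b : L | ∃ n ∈ S, n ≠ 0 ∧ b ^ n = 1} = {z : L | ∃ n : ℕ, z ^ (p ^ n) = 1} := by
    ext b
    constructor
    · rintro ⟨_, ⟨k, rfl⟩, -, h⟩
      exact ⟨k, h⟩
    · rintro ⟨k, h⟩
      exact ⟨_, ⟨k, rfl⟩, (pow_pos hp.pos k).ne', h⟩
  rw [hset, hgen] at hcyc
  have hgalTop : IsGalois K (⊤ : IntermediateField K L) := IsCyclotomicExtension.isGalois S K _
  have hgal : IsGalois K L := IsGalois.of_algEquiv IntermediateField.topEquiv
  -- the level `m`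
  obtain ⟨m, hm, ⟨ζ, hζ⟩, hmax⟩ : ∃ m : ℕ, 2 ≤ m ∧ (∃ ζ : K, IsPrimitiveRoot ζ (p ^ m)) ∧
      ¬ ∃ ζ : K, IsPrimitiveRoot ζ (p ^ (m + 1)) := by
    classical
    push Not at hK
    have hK' : ∃ n : ℕ, ¬ ∃ ζ : K, IsPrimitiveRoot ζ (p ^ n) := by
      obtain ⟨n, hn⟩ := hK
      exact ⟨n, fun ⟨ζ, hζ⟩ => hn ζ hζ⟩
    have hN := Nat.find_spec hK'
    have hmin := fun {k : ℕ} => Nat.find_min hK' (m := k)
    have h2 : ∀ j ≤ 2, Nat.find hK' ≠ j := by
      intro j hj h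
      rw [h] at hN
      apply hN
      obtain ⟨ζ, hζ⟩ := hprim
      exact ⟨ζ ^ (p ^ (2 - j)), hζ.pow (pow_pos hp.pos _) (by rw [← pow_add]; congr 1; omega)⟩
    have h20 := h2 0 (by norm_num)
    have h21 := h2 1 (by norm_num)
    have h22 := h2 2 le_rfl
    refine ⟨Nat.find hK' - 1, by omega, ?_, ?_⟩
    · have := hmin (k := Nat.find hK' - 1) (by omega)
      rwa [not_not] at this
    · rwa [show Nat.find hK' - 1 + 1 = Nat.find hK' by omega]
  have h2 : p = 2 → 2 ≤ m := fun _ => hm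
  have hm : 1 ≤ m := by omega
  obtain ⟨z, h0, hz, hzp⟩ := exists_system (L := L) hp hroots hm
    (hζ.map_of_injective (algebraMap K L).injective)
  -- `σ`
  have hz1 : z 1 ∉ Set.range (algebraMap K L) := by
    rintro ⟨y, hy⟩
    apply hmax
    refine ⟨y, ?_⟩
    have := hzp 1
    rw [← hy] at this
    exact this.of_map_of_injective (algebraMap K L).injective
  obtain ⟨σ, hσ⟩ : ∃ σ : L ≃ₐ[K] L, σ (z 1) ≠ z 1 := by
    by_contra hcon
    push Not at hcon
    exact hz1 ((InfiniteGalois.mem_range_algebraMap_iff_fixed (z 1)).mpr hcon)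
  have hroots' := roots_eq hp hm h2 h0 hz hzp σ hσ
  have hint := isIntegral hp h0 hz
  have hfin : ∀ a, Module.finrank K K⟮z a⟯ = p ^ a := fun a => by
    rw [adjoin.finrank (hint a), (hroots' a).1]
  refine ⟨inferInstance, fun a => K⟮z a⟯, σ, adjoin_mono hz, ?_, fun a => adjoin.finiteDimensional (hint a),
    ?_, hfin, ?_, ?_⟩
  · -- exhaustion
    have hle : IntermediateField.adjoin K {z : L | ∃ n : ℕ, z ^ (p ^ n) = 1} ≤ ⨆ a, K⟮z a⟯ := by
      rw [IntermediateField.adjoin_le_iff]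
      rintro w ⟨n, hn⟩
      have : NeZero (p ^ (m + n)) := ⟨(pow_pos hp.pos _).ne'⟩
      obtain ⟨k, -, rfl⟩ := (hzp n).eq_pow_of_pow_eq_one
        (show w ^ p ^ (m + n) = 1 by rw [add_comm, pow_add, pow_mul, hn, one_pow])
      exact pow_mem ((le_iSup (fun a => K⟮z a⟯) n) (mem_adjoin_simple_self K (z n))) k
    intro x
    have hx : x ∈ (⨆ a, K⟮z a⟯ : IntermediateField K L) := by
      apply hle
      rw [hgen]
      trivial
    rw [← SetLike.mem_coe, coe_iSup_of_directed (adjoin_mono (K := K) hz).directed_le, Set.mem_iUnion] at hx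
    exact hx
  · intro a
    have : NeZero (p ^ (m + a)) := ⟨(pow_pos hp.pos _).ne'⟩
    have : IsCyclotomicExtension {p ^ (m + a)} K K⟮z a⟯ :=
      IsPrimitiveRoot.intermediateField_adjoin_isCyclotomicExtension K (hzp a)
    exact IsCyclotomicExtension.isGalois {p ^ (m + a)} K _
  · intro a x hx
    have h3 : K⟮z a⟯ ≤ (K⟮z a⟯).comap (σ : L →ₐ[K] L) := by
      rw [adjoin_le_iff, Set.singleton_subset_iff]
      change σ (z a) ∈ K⟮z a⟯
      obtain ⟨u, hu, -⟩ := exists_exponent hp h0 hz hzp σ hσ a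
      rw [hu]
      exact pow_mem (mem_adjoin_simple_self K (z a)) u
    exact h3 hx
  · intro a g
    let y : K⟮z a⟯ := AdjoinSimple.gen K (z a)
    have hy : (y : L) = z a := AdjoinSimple.coe_gen K (z a)
    have hroot : aeval ((g y : K⟮z a⟯) : L) (minpoly K (z a)) = 0 := by
      have h3 : ((g y : K⟮z a⟯) : L) = ((K⟮z a⟯.val).comp (g : K⟮z a⟯ →ₐ[K] K⟮z a⟯)) y := rfl
      have h4 : minpoly K (z a) = minpoly K y := (minpoly_gen K (z a)).symm
      rw [h3, aeval_algHom_apply, h4, minpoly.aeval, map_zero]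
    obtain ⟨k, hk⟩ := (hroots' a).2 _ hroot
    refine ⟨k, ?_⟩
    have h8 : (K⟮z a⟯.val).comp (g : K⟮z a⟯ →ₐ[K] K⟮z a⟯) =
        ((σ ^ k : L ≃ₐ[K] L) : L →ₐ[K] L).comp K⟮z a⟯.val := by
      apply (adjoin.powerBasis (hint a)).algHom_ext
      rw [adjoin.powerBasis_gen]
      change ((g y : K⟮z a⟯) : L) = (σ ^ k) (y : L)
      rw [hy, hk]
    intro x
    exact congrArg (fun f : K⟮z a⟯ →ₐ[K] L => f x) h8

/-- The field `K(μ_{p^∞})`. -/
theorem exists_cyc (K : Type u) [Field K] (p : ℕ) (hp : (p : K) ≠ 0) :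
    ∃ (Kinf : Type u) (_ : Field Kinf) (_ : Algebra K Kinf), Algebra.IsAlgebraic K Kinf ∧
      (∀ n : ℕ, ∃ ζ : Kinf, IsPrimitiveRoot ζ (p ^ n)) ∧
      IntermediateField.adjoin K {z : Kinf | ∃ n : ℕ, z ^ (p ^ n) = 1} = ⊤ := by
  let Ω := AlgebraicClosure K
  have hprim : ∀ n : ℕ, ∃ ζ : Ω, IsPrimitiveRoot ζ (p ^ n) := by
    intro n
    have : NeZero ((p ^ n : ℕ) : Ω) := ⟨by
      rw [Nat.cast_pow]
      refine pow_ne_zero _ ?_
      rw [← map_natCast (algebraMap K Ω)]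
      exact fun h => hp ((map_eq_zero _).1 h)⟩
    exact (HasEnoughRootsOfUnity.prim (M := Ω) (n := p ^ n))
  let S : Set Ω := {z : Ω | ∃ n : ℕ, z ^ (p ^ n) = 1}
  let Kinf : IntermediateField K Ω := IntermediateField.adjoin K S
  have hSK : S ⊆ Kinf := IntermediateField.subset_adjoin K S
  refine ⟨Kinf, inferInstance, inferInstance, inferInstance, ?_, ?_⟩
  · intro n
    obtain ⟨η, hη⟩ := hprim n
    have hη' : η ∈ Kinf := hSK ⟨n, hη.pow_eq_one⟩
    exact ⟨⟨η, hη'⟩, IsPrimitiveRoot.of_map_of_injective (f := algebraMap Kinf Ω) hη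
      (algebraMap Kinf Ω).injective⟩
  · apply (IntermediateField.map_injective Kinf.val)
    rw [IntermediateField.adjoin_map, ← AlgHom.fieldRange_eq_map, IntermediateField.fieldRange_val]
    have himg : (Kinf.val '' {z : Kinf | ∃ n : ℕ, z ^ (p ^ n) = 1}) = S := by
      ext z
      constructor
      · rintro ⟨w, ⟨n, hn⟩, rfl⟩
        refine ⟨n, ?_⟩
        rw [← map_pow, hn, map_one]
      · rintro ⟨n, hn⟩
        refine ⟨⟨z, hSK ⟨n, hn⟩⟩, ⟨n, ?_⟩, rfl⟩
        apply Subtype.ext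
        simpa using hn
    rw [himg]

end Groth.Agent.Dix.K109.CycTow
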