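import Groth.Agent.Dix.K109.NfCyc
import Groth.Agent.TateLoc.K773.DualTors

/-!
# `H³(k, Ĝ) = 0`, `k` a perfect field of cohomological dimension `2` with `H³(k, lattice) = 0`
-/

set_option autoImplicit false
universe u

open CategoryTheory MonoidalCategory CartesianMonoidalCategory MonObj GrpObj AlgebraicGeometry Limits Opposite
open TensorProduct
open Groth.Agent.Books.AffBridge Groth.Agent.Books.AffBridge2 Groth.Agent.Etdl.H432.Sec
open Groth.Agent.CurvesA Groth.Agent.CurvesA.EtFieldObj K771.HomEv K771.Pts K620.HopfSeq K773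

namespace Groth.Agent.Dix.K109.DualFin

open Groth.Agent.CurvesA.EtFieldFin

section

variable {K : Type u} [Field K]

variable (A : Type u) [CommRing A] [HopfAlgebra K A] [IsCommMonObj (SpecOver K A)] [Algebra.FiniteType K A]

/-- The characters over a finite separable extension form a finitely generated group. -/
theorem finite_sect (N : Type u) [Field N] [Algebra K N] [FiniteDimensional K N] [Algebra.IsSeparable K N] :
    Module.Finite ℤ (((EtFppf.aPush _).obj (Perf.D K A)).obj.obj (op (etObj K N))) := by
  have hfg : Group.FG (GroupLike N (N ⊗[K] A)) := Groth.Agent.TateLoc.K798.CharFG.fg_groupLike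
  have hfin : Module.Finite ℤ (Additive (GroupLike N (N ⊗[K] A))) := by
    have : AddGroup.FG (Additive (GroupLike N (N ⊗[K] A))) := inferInstance
    exact Module.Finite.iff_addGroup_fg.2 this
  let φ : Γs (Perf.D K A) (SpecOver K N) →+ Additive (GroupLike N (N ⊗[K] A)) :=
    AddMonoidHom.mk' (fun s => Additive.ofMul ⟨CharSec.ch s, CharSec.isGroupLike_ch s⟩) (fun s t => by
      apply Additive.toMul.injective
      apply GroupLike.val_injective
      exact CharSec.ch_add s t)
  have hφ : Function.Injective φ := by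
    intro s t h
    apply CharSec.ch_injective
    exact congrArg (fun z => (Additive.toMul z).val) h
  exact Module.Finite.of_injective φ.toIntLinearMap hφ

/-- The restriction of the dual sheaf to the étale site is split by a finite extension. -/
theorem fin_dual : Fin' ((EtFppf.aPush _).obj (Perf.D K A)) := by
  obtain ⟨L, _, _, _, _, t, ht, h1, h2⟩ := Perf.exists_stable_dual K A
  obtain ⟨N, _, _, _, _, ⟨φ⟩, -⟩ := exists_galois (K := K) L L
  refine ⟨N, inferInstance, inferInstance, inferInstance, inferInstance, ?_, finite_sect A N⟩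
  intro N' _ _ _ _ b a
  obtain ⟨c, hc⟩ := h1 N' (b ≫ etMap φ) a
  refine ⟨((EtFppf.aPush _).obj (Perf.D K A)).obj.map (etMap φ).op c, ?_⟩
  rw [← map_comp_apply]
  exact hc

end

section

variable {k : Type u} [Field k] [PerfectField k]

theorem subsingleton_hopf (A : Type u) [CommRing A] [HopfAlgebra k A] [IsCommMonObj (SpecOver k A)]
    [Algebra.FiniteType k A] (q : ℕ)
    (h : ∀ F : EtCoh.Ab (Spec (CommRingCat.of k)), Fin' F → Subsingleton (EtCoh.H (Spec (CommRingCat.of k)) F q)) :
    Subsingleton (EtFppf.HF _ (Perf.D k A) q) := by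
  obtain ⟨e⟩ := K771.PerfRes.nonempty_hEquiv k (Perf.D k A) q
  have := h _ (fin_dual A)
  exact e.symm.toEquiv.subsingleton

variable (G : Over (Spec (CommRingCat.of k))) [GrpObj G] [IsCommMonObj G] [IsAffine G.left]
  [LocallyOfFiniteType G.hom]

/-- Vanishing of the cohomology of the dual sheaf. -/
theorem subsingleton_dual (q : ℕ)
    (h : ∀ F : EtCoh.Ab (Spec (CommRingCat.of k)), Fin' F → Subsingleton (EtCoh.H (Spec (CommRingCat.of k)) F q)) :
    Subsingleton (DualTors.HD G q) := by
  obtain ⟨A, _, _, _, e, he, hft⟩ := K620.HopfSeq.exists_model G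
  have hA : Algebra.FiniteType k A := hft inferInstance
  have := subsingleton_hopf A q h
  exact (Perf.dualHEquiv e q).symm.toEquiv.subsingleton

end

/-- **`H³(k, Ĝ) = 0`** over non-orderable algebraic extensions of `ℚ`. -/
theorem subsingleton_numberField (k : Type u) [Field k] [CharZero k] [Algebra.IsAlgebraic ℚ k]
    (hord : ¬ ∃ _ : LinearOrder k, IsStrictOrderedRing k)
    (G : Over (Spec (CommRingCat.of k))) [GrpObj G] [IsCommMonObj G] [IsAffine G.left] [LocallyOfFiniteType G.hom] :
    Subsingleton (BigSite.H Scheme.fppfPrecoverage (Spec (CommRingCat.of k))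
      (CGrpSh2.dualSh Scheme.fppfPrecoverage (CGrpSh.pts Scheme.fppfPrecoverage G)) 3) :=
  subsingleton_dual G 3 fun _ hF => NfCyc.subsingleton_H3_fin
    (fun ℓ hℓ => by
      have : Fact ℓ.Prime := ⟨hℓ⟩
      exact NfCyc.cohDimLEAt_two ℓ k (Or.inr hord))
    (fun _ hG htf => NfCyc.subsingleton_H3 k hord hG htf) hF

end Groth.Agent.Dix.K109.DualFin
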