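import Groth.Agent.Dix.K109.Semilin
import Groth.Agent.Dix.K109.ConstEl
import Groth.Agent.Sga4h.CycField
import Groth.Agent.Sga4A.IntegralSection
import Groth.Agent.Sga4h.TameFieldK2
import Groth.Agent.CurvesA.SpCurveH1

/-!
# The Kummer sequence `0 ⟶ t_* t^* (ℤ/n) ⟶ t_* G_m ⟶ t_* G_m ⟶ 0` for `t : Spec L ⟶ Spec K`
-/

set_option autoImplicit false
set_option backward.isDefEq.respectTransparency.types false
universe u

open CategoryTheory CategoryTheory.Limits AlgebraicGeometry Opposite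

namespace Groth.Agent.Dix.K109.KumTower

open Groth.Agent.EtpbcB.Big Groth.Agent.Sga4h.FamTau Groth.Agent.Sga4h.MuConst ConstEl Semilin

theorem bij_appTop {X Y : Scheme.{u}} (f : X ⟶ Y) (h : IsIso f) : Function.Bijective f.appTop.hom :=
  have h0 : IsIso (f.app ⊤) := inferInstance
  @ConcreteCategory.bijective_of_isIso _ _ _ _ _ _ _ _ f.appTop h0

section Phi

variable {K L : Type u} [Field K] [Field L] (i : K →+* L)

/-- `Spec L ⟶ Spec K`. -/
noncomputable abbrev sp : Spec (CommRingCat.of L) ⟶ Spec (CommRingCat.of K) :=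
  Spec.map (CommRingCat.ofHom i)

/-- The projection `Spec K ×_K Spec L ⟶ Spec L`. -/
noncomputable abbrev sndT : ((EtCoh.bc (sp i)).obj (EtCoh.top _)).left ⟶ Spec (CommRingCat.of L) :=
  ((EtCoh.bc (sp i)).obj (EtCoh.top _)).hom

instance isIso_sndT : IsIso (sndT i) :=
  inferInstanceAs (IsIso (pullback.snd (𝟙 (Spec (CommRingCat.of K))) (sp i)))

/-- Scalars as functions. -/
noncomputable def phiR : L →+* Γ(((EtCoh.bc (sp i)).obj (EtCoh.top _)).left, ⊤) :=
  (sndT i).appTop.hom.comp (Scheme.ΓSpecIso (CommRingCat.of L)).inv.hom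

theorem phiR_bijective : Function.Bijective (phiR i) := by
  have h1 : Function.Bijective (sndT i).appTop.hom := bij_appTop (sndT i) (isIso_sndT i)
  have h2 : Function.Bijective (Scheme.ΓSpecIso (CommRingCat.of L)).inv.hom :=
    ConcreteCategory.bijective_of_isIso (Scheme.ΓSpecIso (CommRingCat.of L)).inv
  exact h1.comp h2

/-- Scalars as sections of `t_* G_m`. -/
noncomputable def phi (x : Lˣ) :
    ((EtCoh.push (sp i)).obj (EtCoh.Gm (Spec (CommRingCat.of L)))).obj.obj (op (EtCoh.top _)) :=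
  gmMk (W := (EtCoh.bc (sp i)).obj (EtCoh.top _)) (Units.map (phiR i).toMonoidHom x)

theorem phi_surjective : Function.Surjective (phi i) := by
  intro q
  have h1 : Function.Surjective (Units.map (phiR i).toMonoidHom) := by
    intro y
    obtain ⟨a, ha⟩ := (phiR_bijective i).2 (y : Γ(((EtCoh.bc (sp i)).obj (EtCoh.top _)).left, ⊤))
    obtain ⟨b, hb⟩ := (phiR_bijective i).2 ((y⁻¹ : Γ(((EtCoh.bc (sp i)).obj (EtCoh.top _)).left, ⊤)ˣ) : _)
    refine ⟨⟨a, b, (phiR_bijective i).1 ?_, (phiR_bijective i).1 ?_⟩, Units.ext ha⟩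
    · rw [map_mul, ha, hb, map_one, Units.mul_inv]
    · rw [map_mul, ha, hb, map_one, Units.inv_mul]
  obtain ⟨x, hx⟩ := h1 (gmVal (W := (EtCoh.bc (sp i)).obj (EtCoh.top _)) q)
  refine ⟨x, ?_⟩
  rw [phi, hx]
  exact gmMk_val _

theorem phi_injective : Function.Injective (phi i) := by
  intro x y h
  have h1 := congrArg (gmVal (W := (EtCoh.bc (sp i)).obj (EtCoh.top _))) h
  rw [phi, phi, gmVal_mk, gmVal_mk] at h1
  exact Units.ext ((phiR_bijective i).1 (congrArg Units.val h1))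

theorem nsmul_phi (n : ℕ) (x : Lˣ) : n • phi i x = phi i (x ^ n) := by
  rw [phi, phi, map_pow]
  rfl

theorem phi_one : phi i 1 = 0 := by
  rw [phi, map_one]
  rfl

variable (σ : L →+* L) (hσ : σ.comp i = i)

include hσ in
theorem sp_comp : sp σ ≫ sp i = sp i := by
  rw [← Spec.map_comp, ← CommRingCat.ofHom_comp, hσ]

theorem mV_snd : mV (sp σ) (sp_comp i σ hσ) (EtCoh.top _) ≫ sndT i = sndT i ≫ sp σ :=
  mV_hom (sp σ) (sp_comp i σ hσ) (EtCoh.top _)

/-- The action of `σ` on sections of `t_* G_m`. -/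
theorem gmTau_phi (x : Lˣ) : (gmTau (sp σ) (sp_comp i σ hσ)).hom.app (op (EtCoh.top _)) (phi i x) =
    phi i (Units.map σ.toMonoidHom x) := by
  have h0 : (mV (sp σ) (sp_comp i σ hσ) (EtCoh.top _)).appTop.hom.comp (phiR i) = (phiR i).comp σ := by
    have h1 := congrArg Scheme.Hom.appTop (mV_snd i σ hσ)
    rw [Scheme.Hom.comp_appTop, Scheme.Hom.comp_appTop] at h1
    have h2 := Scheme.ΓSpecIso_inv_naturality (CommRingCat.ofHom σ)
    ext y
    have h3 := ConcreteCategory.congr_hom h1 ((Scheme.ΓSpecIso (CommRingCat.of L)).inv.hom y)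
    have h4 := ConcreteCategory.congr_hom h2 y
    refine h3.trans ?_
    change (sndT i).appTop.hom _ = (sndT i).appTop.hom _
    exact congrArg _ h4.symm
  rw [gmTau_app]
  change gmMk (W := (EtCoh.bc (sp i)).obj (EtCoh.top _)) (Units.map _ (Units.map _ x)) = _
  rw [phi]
  congr 1
  exact Units.ext (RingHom.congr_fun h0 (x : L))

end Phi

section Kum

variable {K L : Type u} [Field K] [Field L] (i : K →+* L) (n : ℕ)

/-- Units of a field as functions on its spectrum. -/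
noncomputable def toΓ (x : Lˣ) : Γ(Spec (CommRingCat.of L), ⊤)ˣ :=
  Units.map (Scheme.ΓSpecIso (CommRingCat.of L)).inv.hom.toMonoidHom x

theorem toΓ_pow (x : Lˣ) (r : ℕ) : toΓ x ^ r = toΓ (x ^ r) := (map_pow _ x r).symm

variable {n} in
theorem isPrim {ζ : Lˣ} (hζ : IsPrimitiveRoot ζ n) : IsPrim n (toΓ ζ) where
  pow_eq := by rw [toΓ_pow, hζ.pow_eq_one]; exact map_one _
  isUnit k h1 h2 := by
    have h3 : IsUnit (1 - (ζ : L) ^ k) := by
      apply Ne.isUnit
      intro h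
      exact hζ.pow_ne_one_of_pos_of_lt h1.ne' h2 (Units.ext (by
        rw [Units.val_pow_eq_pow_val, Units.val_one]
        exact (sub_eq_zero.1 h).symm))
    have h4 := h3.map (Scheme.ΓSpecIso (CommRingCat.of L)).inv.hom
    rw [map_sub, map_one, map_pow] at h4
    exact h4

variable {n} {ζ : Lˣ} (hζ : IsPrimitiveRoot ζ n)

/-- The Kummer map `ℤ/n ⟶ t_* G_m`. -/
noncomputable def aa : EtCoh.const (Spec (CommRingCat.of K)) (ZMod n) ⟶
    (EtCoh.push (sp i)).obj (EtCoh.Gm (Spec (CommRingCat.of L))) :=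
  (EtCoh.pullPushAdj (sp i)).homEquiv _ _ ((EtCore.pullConst (sp i) (ZMod n)).hom ≫
    kz n (toΓ ζ) (isPrim hζ).pow_eq)

theorem kum_aa : kum (sp i) (aa i hζ) = (EtCoh.push (sp i)).map ((EtCore.pullConst (sp i) (ZMod n)).hom ≫
    kz n (toΓ ζ) (isPrim hζ).pow_eq) := by
  rw [kum, aa, Equiv.symm_apply_apply]

theorem kum_zero : kum (sp i) (aa i hζ) ≫ (n • 𝟙 ((EtCoh.push (sp i)).obj (EtCoh.Gm (Spec (CommRingCat.of L))))) = 0 := by
  have h : (n • 𝟙 ((EtCoh.push (sp i)).obj (EtCoh.Gm (Spec (CommRingCat.of L))))) =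
      (EtCoh.push (sp i)).map (n • 𝟙 (EtCoh.Gm (Spec (CommRingCat.of L)))) := by
    rw [Functor.map_nsmul, CategoryTheory.Functor.map_id]
  rw [h, kum_aa, ← Functor.map_comp, Category.assoc, kz_zero, comp_zero, Functor.map_zero]

theorem kum_shortExact [IsIntegralHom (sp i)] (hn : (n : L) ≠ 0) :
    (ShortComplex.mk (kum (sp i) (aa i hζ))
      (n • 𝟙 ((EtCoh.push (sp i)).obj (EtCoh.Gm (Spec (CommRingCat.of L))))) (kum_zero i hζ)).ShortExact := by
  have hn0 : 0 < n := Nat.pos_of_ne_zero (by rintro rfl; exact hn Nat.cast_zero)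
  have hu := Groth.Agent.CurvesA.SpCurveH1.isUnit_natCast (𝟙 (Spec (CommRingCat.of L))) n hn
  have he := Groth.Agent.CurvesA.SpCurveH1.epi_powMap (𝟙 (Spec (CommRingCat.of L))) n hn
  have h1 := shortExact_kummer n hn0 hu (toΓ ζ) (isPrim hζ) he
  have hw : ((EtCore.pullConst (sp i) (ZMod n)).hom ≫ kz n (toΓ ζ) (isPrim hζ).pow_eq) ≫
      (n • 𝟙 (EtCoh.Gm (Spec (CommRingCat.of L)))) = 0 := by
    rw [Category.assoc, kz_zero, comp_zero]
  have h2 : (ShortComplex.mk ((EtCore.pullConst (sp i) (ZMod n)).hom ≫ kz n (toΓ ζ) (isPrim hζ).pow_eq)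
      (n • 𝟙 (EtCoh.Gm (Spec (CommRingCat.of L)))) hw).ShortExact := by
    refine ShortComplex.shortExact_of_iso (S₁ := ShortComplex.mk (kz n (toΓ ζ) (isPrim hζ).pow_eq)
      (n • 𝟙 (EtCoh.Gm (Spec (CommRingCat.of L)))) (kz_zero n _ _))
      (ShortComplex.isoMk (EtCore.pullConst (sp i) (ZMod n)).symm (Iso.refl _) (Iso.refl _) ?_ ?_) h1
    · change (EtCore.pullConst (sp i) (ZMod n)).inv ≫ (EtCore.pullConst (sp i) (ZMod n)).hom ≫ _ = _ ≫ 𝟙 _
      rw [Iso.inv_hom_id_assoc, Category.comp_id]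
    · change 𝟙 _ ≫ _ = _ ≫ 𝟙 _
      rw [Category.comp_id, Category.id_comp]
  have := Groth.Agent.Sga4A.EtSplit.preservesFiniteColimits_push (sp i)
  have h3 := h2.map_of_exact (EtCoh.push (sp i))
  refine ShortComplex.shortExact_of_iso (S₁ := (ShortComplex.mk ((EtCore.pullConst (sp i) (ZMod n)).hom ≫
    kz n (toΓ ζ) (isPrim hζ).pow_eq) (n • 𝟙 (EtCoh.Gm (Spec (CommRingCat.of L)))) hw).map (EtCoh.push (sp i)))
    (ShortComplex.isoMk (Iso.refl _) (Iso.refl _) (Iso.refl _) ?_ ?_) h3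
  · change 𝟙 _ ≫ kum (sp i) (aa i hζ) = (EtCoh.push (sp i)).map _ ≫ 𝟙 _
    rw [Category.comp_id, Category.id_comp, kum_aa]
  · change 𝟙 _ ≫ (n • 𝟙 _) = (EtCoh.push (sp i)).map (n • 𝟙 _) ≫ 𝟙 _
    rw [Category.comp_id, Category.id_comp, Functor.map_nsmul, CategoryTheory.Functor.map_id]

/-- Compatibility of the Kummer maps for different `n`. -/
theorem cmap_aa {m r : ℕ} {ζ' : Lˣ} (hζ' : IsPrimitiveRoot ζ' m) (f : ZMod m →+ ZMod n) (hf : f 1 = r)
    (e : ζ ^ r = ζ') : cmap _ f ≫ aa i hζ = aa i hζ' := by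
  rw [aa, aa, ← Adjunction.homEquiv_naturality_left, ← Category.assoc, pull_cmap, Category.assoc,
    cmap_kz f hf (toΓ ζ) (toΓ ζ') _ (isPrim hζ').pow_eq (by rw [toΓ_pow, e])]

variable (σ : L →+* L) (hσ : σ.comp i = i)

/-- Morphisms `ℤ/n ⟶ t_* G_m` are eigenvectors of `σ` if `σ` acts on `μ_n` by the `c`-th power. -/
theorem gmTau_eigen (c : ℕ) (hc : ∀ z : Lˣ, z ^ n = 1 → Units.map σ.toMonoidHom z = z ^ c)
    (a : EtCoh.const (Spec (CommRingCat.of K)) (ZMod n) ⟶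
      (EtCoh.push (sp i)).obj (EtCoh.Gm (Spec (CommRingCat.of L)))) :
    a ≫ gmTau (sp σ) (sp_comp i σ hσ) = c • a := by
  apply hom_ext_zmod
  rw [evl_comp, evl_nsmul]
  obtain ⟨x, hx⟩ := phi_surjective i (evl a 1)
  have h1 : x ^ n = 1 := by
    apply phi_injective i
    rw [← nsmul_phi, hx, evl_one_zmod, phi_one]
  rw [← hx, gmTau_phi i σ hσ, hc x h1, nsmul_phi]

/-- Iterates of `σ` on morphisms `ℤ ⟶ t_* G_m`. -/
theorem iter_gmTau (b : EtCoh.const (Spec (CommRingCat.of K)) ℤ ⟶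
      (EtCoh.push (sp i)).obj (EtCoh.Gm (Spec (CommRingCat.of L)))) (x : Lˣ) (hx : phi i x = evl b 1)
    (k : ℕ) : evl ((fun z => z ≫ gmTau (sp σ) (sp_comp i σ hσ))^[k] b) 1 =
      phi i ((Units.map σ.toMonoidHom)^[k] x) := by
  induction k with
  | zero => exact hx.symm
  | succ k ih =>
    rw [Function.iterate_succ_apply', Function.iterate_succ_apply', evl_comp, ih, gmTau_phi i σ hσ]

end Kum

end Groth.Agent.Dix.K109.KumTower
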