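import Groth.Agent.Dix.K109.Scd
import Groth.Agent.Etbc.H226.NfCd

/-!
# Local fields of characteristic zero: `cd_ℓ ≤ 2` and `H³(k, F) = 0` for lattices

`IsLF k`: `k` is the fraction field of a henselian discrete valuation ring of characteristic zero with finite
residue field.
-/

set_option autoImplicit false
universe u
open AlgebraicGeometry CategoryTheory Polynomial Opposite

namespace Groth.Agent.Dix.K109.LocCd

open Groth.Agent.Etbc Groth.Agent.Etbc.H226.NFDefs Groth.Agent.Etbc.H214.NormGroup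

/-- Over algebraic extensions of a local field containing all `ℓ`-power roots of unity all symbols vanish. -/
theorem normGroup_eq_top (ℓ : ℕ) [Fact ℓ.Prime] (k : Type u) [Field k] (hk : IsLF k) (E : Type u) [Field E]
    [Algebra k E] [Algebra.IsAlgebraic k E] (h : ∀ n, ∃ ζ : E, IsPrimitiveRoot ζ (ℓ ^ n)) (b : Eˣ) :
    normGroup ℓ (b : E) = ⊤ := by
  classical
  have hp : ℓ.Prime := Fact.out
  rw [eq_top_iff]
  intro a _
  choose ζ hζ using h
  let s : Set E := {(a : E), (b : E), ζ 1}
  have hs : s.Finite := by simp [s]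
  let K : IntermediateField k E := IntermediateField.adjoin k s
  have hKfin : FiniteDimensional k K := by
    have : Finite s := hs
    exact IntermediateField.finiteDimensional_adjoin (fun x _ => Algebra.IsIntegral.isIntegral x)
  have hKlf : IsLF K := H205.C2.isLF_of_finite k K hk
  have hsK : ∀ x ∈ s, x ∈ K := fun x hx => IntermediateField.subset_adjoin k s hx
  let aK : Kˣ := Units.mk0 ⟨(a : E), hsK _ (by simp [s])⟩ (by
    intro h0; exact a.ne_zero (congrArg Subtype.val h0))
  let bK : Kˣ := Units.mk0 ⟨(b : E), hsK _ (by simp [s])⟩ (by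
    intro h0; exact b.ne_zero (congrArg Subtype.val h0))
  let zK : K := ⟨ζ 1, hsK _ (by simp [s])⟩
  have hzK : IsPrimitiveRoot zK ℓ := by
    have h1 : IsPrimitiveRoot zK (ℓ ^ 1) :=
      IsPrimitiveRoot.of_map_of_injective (f := algebraMap K E) (hζ 1) (algebraMap K E).injective
    rwa [pow_one] at h1
  obtain ⟨N, hN⟩ := H191.NfRoots.exists_no_root K hKlf ℓ
  have key := H191.NfE.mem_of_root (fun k _ hk hζ b hb => H197.C4 ℓ k hk hζ b hb) K E hKlf (algebraMap K E)
    ⟨zK, hzK⟩ N hN ⟨ζ N, hζ N⟩ aK bK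
  have e1 : Units.map (algebraMap K E : K →* E) aK = a := Units.ext rfl
  have e2 : algebraMap K E (bK : K) = b := rfl
  rw [e2] at key
  have e3 : Units.map ((algebraMap K E : K →+* E) : K →* E) aK = a := Units.ext rfl
  rwa [e3] at key

/-- Algebraic extensions of a local field containing all `ℓ`-power roots of unity have `cd_ℓ ≤ 1`. -/
theorem cohDimLEAt_one (ℓ : ℕ) [Fact ℓ.Prime] (k : Type u) [Field k] (hk : IsLF k) (L : Type u) [Field L]
    [Algebra k L] [Algebra.IsAlgebraic k L] (h : ∀ n, ∃ ζ : L, IsPrimitiveRoot ζ (ℓ ^ n)) :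
    Dix.CohDimLEAt (Spec (CommRingCat.of L)) ℓ 1 := by
  have : CharZero k := hk.1
  have : CharZero L := charZero_of_injective_algebraMap (algebraMap k L).injective
  refine H226.NfCd.nf4 L ℓ (by simpa using h 1) ?_
  intro E M _ _ _ _ _ _ _ hdeg
  have : CharZero E := charZero_of_injective_algebraMap (algebraMap L E).injective
  have hr : ∀ n, ∃ ζ : E, IsPrimitiveRoot ζ (ℓ ^ n) := by
    intro n
    obtain ⟨ζ, hζ⟩ := h n
    exact ⟨algebraMap L E ζ, hζ.map_of_injective (algebraMap L E).injective⟩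
  let _ : Algebra k E := ((algebraMap L E).comp (algebraMap k L)).toAlgebra
  have : IsScalarTower k L E := IsScalarTower.of_algebraMap_eq fun _ => rfl
  have : Algebra.IsAlgebraic k E := Algebra.IsAlgebraic.trans k L E
  exact H236.NormSurj.norm_surjective E M ℓ (by simpa using hr 1) hdeg fun b =>
    normGroup_eq_top ℓ k hk E hr b

theorem cycCd (ℓ : ℕ) [Fact ℓ.Prime] (k : Type u) [Field k] (hk : IsLF k) : Scd.CycCd k ℓ :=
  fun L _ _ _ hL => cohDimLEAt_one ℓ k hk L hL

/-- Local fields are not orderable. -/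
theorem not_orderable (k : Type u) [Field k] (hk : IsLF k) :
    ¬ ∃ _ : LinearOrder k, IsStrictOrderedRing k := by
  rintro ⟨_, _⟩
  obtain ⟨h0, R, _, _, _, _, hR, hfr, hfin⟩ := hk
  obtain ⟨p, hp⟩ := CharP.exists (IsLocalRing.ResidueField R)
  have hp0 : p ≠ 0 := by
    rintro rfl
    have : CharZero (IsLocalRing.ResidueField R) := CharP.charP_to_charZero _
    have : Infinite (IsLocalRing.ResidueField R) := Infinite.of_injective _ (Nat.cast_injective (R := IsLocalRing.ResidueField R))
    exact not_finite (IsLocalRing.ResidueField R)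
  have hpm : ((2 * p : ℕ) : R) ∈ IsLocalRing.maximalIdeal R := by
    rw [← IsLocalRing.residue_eq_zero_iff, map_natCast, Nat.cast_mul,
      CharP.cast_eq_zero (IsLocalRing.ResidueField R) p, mul_zero]
  -- a root of `Y² + Y + 2p`
  obtain ⟨y, hy, -⟩ := hR.is_henselian (X ^ 2 + X + C ((2 * p : ℕ) : R)) (by
      have h1 : (X ^ 2 + X + C ((2 * p : ℕ) : R) : R[X]) = X ^ 2 + (C 1 * X + C ((2 * p : ℕ) : R)) := by
        rw [C_1, one_mul, add_assoc]
      rw [h1]
      refine monic_X_pow_add (n := 2) ?_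
      exact lt_of_le_of_lt degree_linear_le (by norm_num)) 0 (by simpa using hpm) (by
      simp)
  rw [IsRoot.def] at hy
  simp only [eval_add, eval_pow, eval_X, eval_C] at hy
  set x : k := 1 + 2 * algebraMap R k y with hx
  have h2 : x ^ 2 = 1 - 8 * (p : k) := by
    have h3 := congrArg (algebraMap R k) hy
    simp only [map_add, map_pow, map_natCast, map_zero, Nat.cast_mul, Nat.cast_ofNat, map_mul, map_ofNat] at h3
    rw [hx]
    linear_combination 4 * h3
  have h4 : (0 : k) ≤ x ^ 2 := sq_nonneg x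
  rw [h2] at h4
  have h5 : (1 : k) ≤ p := by exact_mod_cast Nat.one_le_iff_ne_zero.2 hp0
  linarith

/-- `cd_ℓ(k) ≤ 2` for local fields of characteristic zero, any prime `ℓ`. -/
theorem cohDimLEAt_two (ℓ : ℕ) [Fact ℓ.Prime] (k : Type u) [Field k] (hk : IsLF k) :
    Dix.CohDimLEAt (Spec (CommRingCat.of k)) ℓ 2 := by
  have : CharZero k := hk.1
  obtain ⟨K', Kinf, _, _, _, _, _, _, hfin, _, _, hζ, hi, hroots, hgen, halg⟩ := H236.G2Cond.exists_tower k ℓ
  have hℓ0 : ℓ ≠ 0 := (Fact.out : ℓ.Prime).ne_zero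
  refine H226.NfCd.serre k K' ℓ Fact.out (by exact_mod_cast hℓ0) 2 ?_ (Or.inr (not_orderable k hk))
  exact H226.NfCd.nf5 ℓ 1 K' Kinf hζ hi hroots hgen (cohDimLEAt_one ℓ k hk Kinf hroots)

/-- **`H³(k, F) = 0`** for lattices `F` over local fields of characteristic zero. -/
theorem subsingleton_H3 (k : Type u) [Field k] (hk : IsLF k) {F : EtCoh.Ab (Spec (CommRingCat.of k))}
    (hF : Groth.Agent.CurvesA.EtFieldFin.Fin' F)
    (htf : ∀ (n : ℕ) (U : (Spec (CommRingCat.of k)).Etale) (s : EtCoh.sect F U), n ≠ 0 → n • s = 0 → s = 0) :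
    Subsingleton (EtCoh.H (Spec (CommRingCat.of k)) F 3) :=
  Scd.subsingleton_H3 k hF htf fun p hp => by
    have : Fact p.Prime := ⟨hp⟩
    have : CharZero k := hk.1
    exact Or.inr ⟨by exact_mod_cast hp.ne_zero, cohDimLEAt_two p k hk, cycCd p k hk⟩

end Groth.Agent.Dix.K109.LocCd
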