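import Groth.Agent.CurvesA.ExtStep
import Mathlib.Algebra.Homology.DerivedCategory.Ext.ExactSequences
import Mathlib.Algebra.Homology.ShortComplex.ShortExact

/-!
# The cup product with the symbol `{c}` in an abelian category

`0 ⟶ U --θ--> G --2--> G ⟶ 0` (Kummer) and `0 ⟶ Q --2--> Q --π--> U ⟶ 0` (Bockstein) give `sym c ∈ Ext²(Q, Q)` for
`c : Q ⟶ G`.

* `sym_neg`: for a quadratic cover `Z ⟶ Q` with a square root `g` of `c = π ≫ θ`, `sym c` is the periodicity class;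
* `eq_zero_of_sym_neg`: the product with it is injective on classes if `Ext^n(Z, F) = Ext^{n+1}(Z, F) = 0`.
-/

set_option autoImplicit false
universe w v u
open CategoryTheory CategoryTheory.Limits CategoryTheory.Abelian

namespace Groth.Agent.Dix.K109.NegCup

open Groth.Agent.CurvesA

variable {𝒜 : Type u} [Category.{v} 𝒜] [Abelian 𝒜] [HasExt.{w} 𝒜]

section Sym

variable {Q U G : 𝒜} {θ : U ⟶ G} {wK : θ ≫ (2 • 𝟙 G) = 0} (hK : (ShortComplex.mk θ (2 • 𝟙 G) wK).ShortExact)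
  {π : Q ⟶ U} {wB : (2 • 𝟙 Q) ≫ π = 0} (hB : (ShortComplex.mk (2 • 𝟙 Q) π wB).ShortExact)

/-- The class `{c}` for `c : P ⟶ G`. -/
noncomputable def sym {P : 𝒜} : (P ⟶ G) →+ Ext P Q 2 where
  toFun c := (Ext.mk₀ c).comp (hK.extClass.comp hB.extClass (show 1 + 1 = 2 from rfl)) (zero_add 2)
  map_zero' := by rw [Ext.mk₀_zero, Ext.zero_comp]
  map_add' c c' := by rw [Ext.mk₀_add, Ext.add_comp]

theorem sym_apply {P : 𝒜} (c : P ⟶ G) : sym hK hB c =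
    (Ext.mk₀ c).comp (hK.extClass.comp hB.extClass (show 1 + 1 = 2 from rfl)) (zero_add 2) := rfl

theorem sym_comp {P P' : 𝒜} (f : P' ⟶ P) (c : P ⟶ G) :
    sym hK hB (f ≫ c) = (Ext.mk₀ f).comp (sym hK hB c) (zero_add 2) := by
  rw [sym_apply, sym_apply, ← Ext.mk₀_comp_mk₀, Ext.comp_assoc_of_second_deg_zero]

end Sym

variable {Q Z I U G F : 𝒜} {i : I ⟶ Z} {ε : Z ⟶ Q} {w₁ : i ≫ ε = 0} (h₁ : (ShortComplex.mk i ε w₁).ShortExact)
  {t : Q ⟶ Z} {d : Z ⟶ I} {w₂ : t ≫ d = 0} (h₂ : (ShortComplex.mk t d w₂).ShortExact)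
  {θ : U ⟶ G} {wK : θ ≫ (2 • 𝟙 G) = 0} (hK : (ShortComplex.mk θ (2 • 𝟙 G) wK).ShortExact)
  {π : Q ⟶ U} {wB : (2 • 𝟙 Q) ≫ π = 0} (hB : (ShortComplex.mk (2 • 𝟙 Q) π wB).ShortExact)
  (g : Z ⟶ G) (hg : g ≫ (2 • 𝟙 G) = ε ≫ π ≫ θ) (hd : (d ≫ i) ≫ g = ε ≫ π ≫ θ) (htε : t ≫ ε = 2 • 𝟙 Q)

include hg hd htε in
/-- The class `{-1}` is the periodicity class of the cover given by a square root of `-1`. -/
theorem sym_neg : sym hK hB (π ≫ θ) = h₁.extClass.comp h₂.extClass (show 1 + 1 = 2 from rfl) := by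
  have hθ : Mono θ := hK.mono_f
  have hm0 : (i ≫ g) ≫ (2 • 𝟙 G) = 0 := by
    rw [Category.assoc, hg, ← Category.assoc, w₁, zero_comp]
  let m : I ⟶ U := hK.exact.lift (i ≫ g) hm0
  have hm : m ≫ θ = i ≫ g := hK.exact.lift_f (i ≫ g) hm0
  have hdm : d ≫ m = ε ≫ π := by
    rw [← cancel_mono θ, Category.assoc, hm, ← Category.assoc, hd, Category.assoc]
  let φ : ShortComplex.mk i ε w₁ ⟶ ShortComplex.mk θ (2 • 𝟙 G) wK :=
    { τ₁ := m
      τ₂ := g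
      τ₃ := π ≫ θ
      comm₁₂ := hm
      comm₂₃ := hg }
  let ψ : ShortComplex.mk t d w₂ ⟶ ShortComplex.mk (2 • 𝟙 Q) π wB :=
    { τ₁ := 𝟙 Q
      τ₂ := ε
      τ₃ := m
      comm₁₂ := by
        change 𝟙 Q ≫ (2 • 𝟙 Q) = t ≫ ε
        rw [Category.id_comp, htε]
      comm₂₃ := hdm.symm }
  have e1 := ShortComplex.ShortExact.extClass_naturality h₁ hK φ
  change h₁.extClass.comp (Ext.mk₀ m) (add_zero 1) = (Ext.mk₀ (π ≫ θ)).comp hK.extClass (zero_add 1) at e1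
  have e2 := ShortComplex.ShortExact.extClass_naturality h₂ hB ψ
  change h₂.extClass.comp (Ext.mk₀ (𝟙 Q)) (add_zero 1) = (Ext.mk₀ m).comp hB.extClass (zero_add 1) at e2
  rw [Ext.comp_mk₀_id] at e2
  rw [sym_apply, ← Ext.comp_assoc (Ext.mk₀ (π ≫ θ)) hK.extClass hB.extClass (zero_add 1) rfl (by omega), ← e1,
    Ext.comp_assoc_of_second_deg_zero, ← e2]

include h₁ h₂ hg hd htε in
/-- The product with `{-1}` is injective. -/
theorem eq_zero_of_sym_neg (n : ℕ) (hn : ∀ x : Ext Z F n, x = 0) (hn' : ∀ x : Ext Z F (n + 1), x = 0)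
    (y : Ext Q F n) (hy : (sym hK hB (π ≫ θ)).comp y (Nat.add_comm 2 n) = 0) : y = 0 := by
  rw [sym_neg h₁ h₂ hK hB g hg hd htε] at hy
  have h3 : h₁.extClass.comp (h₂.extClass.comp y (Nat.add_comm 1 n)) (by omega : 1 + (n + 1) = n + 2) = 0 := by
    rw [← hy]
    exact (Ext.comp_assoc _ _ _ rfl (Nat.add_comm 1 n) (by omega)).symm
  obtain ⟨z, hz⟩ := Ext.contravariant_sequence_exact₁ h₁ F _ (by omega : 1 + (n + 1) = n + 2) h3
  have h4 : h₂.extClass.comp y (Nat.add_comm 1 n) = 0 := by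
    rw [← hz, hn' z, Ext.comp_zero]
  obtain ⟨z', hz'⟩ := Ext.contravariant_sequence_exact₁ h₂ F _ (Nat.add_comm 1 n) h4
  rw [← hz', hn z', Ext.comp_zero]

end Groth.Agent.Dix.K109.NegCup
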