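import Groth.Agent.Dix.K109.StkFin
import Groth.Agent.Etbase.StalkPull
import Groth.Agent.EtpbcA.StalkTools
import Groth.Agent.CurvesA.EtFieldTors

/-!
# Pullback of lattices along algebraic extensions

`fin_pull`, `torsion_free_pull`: `Fin'` and torsion-freeness are preserved by pullback along `Spec K' ⟶ Spec K`.
-/

set_option autoImplicit false
universe v u
open CategoryTheory CategoryTheory.Limits AlgebraicGeometry Opposite

namespace Groth.Agent.Dix.K109.PullFin

open Groth.Agent.Lefpen.H365.FieldPts Groth.Agent.Dix.K282.StkData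
open Groth.Agent.CurvesA.EtFieldObj Groth.Agent.CurvesA.EtFieldFin Groth.Agent.CurvesA.EtFieldTors
open Groth.Agent.EtpbcA.StalkTools

variable {K Ω : Type u} [Field K] [Field Ω] [Algebra K Ω] [IsSepClosed Ω]

/-- The point of the fibre. -/
noncomputable def fb {V : (Spec (CommRingCat.of K)).Etale} (r : Spec (CommRingCat.of Ω) ⟶ V.left)
    (hr : r ≫ V.hom = xi K Ω) : (Scheme.pointSmallEtale (xi K Ω)).fiber.obj V := Over.homMk r hr

theorem fb_left {V : (Spec (CommRingCat.of K)).Etale} (x : (Scheme.pointSmallEtale (xi K Ω)).fiber.obj V) :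
    ∃ (r : Spec (CommRingCat.of Ω) ⟶ V.left) (hr : r ≫ V.hom = xi K Ω), fb r hr = x :=
  ⟨x.left, Over.w x, by apply Over.OverMorphism.ext; rfl⟩

theorem fb_map {V V' : (Spec (CommRingCat.of K)).Etale} (k : V' ⟶ V)
    (r' : Spec (CommRingCat.of Ω) ⟶ V'.left) (hr' : r' ≫ V'.hom = xi K Ω)
    (r : Spec (CommRingCat.of Ω) ⟶ V.left) (hr : r ≫ V.hom = xi K Ω) (e : r' ≫ k.left = r) :
    (Scheme.pointSmallEtale (xi K Ω)).fiber.map k (fb r' hr') = fb r hr := by
  subst e
  apply Over.OverMorphism.ext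
  rfl

/-- The stalk, as a stalk description. -/
noncomputable def stkOf (F : EtCoh.Ab (Spec (CommRingCat.of K))) :
    Stk Ω F ((EtCoh.stalk (xi K Ω)).obj F) where
  ev V r hr := ((Scheme.pointSmallEtale (xi K Ω)).toPresheafFiber V (fb r hr) F.obj).hom
  nat k r' hr' r hr e s := by
    have h := germ_res (xi K Ω) (F := F) k (fb r' hr') s
    rw [fb_map k r' hr' r hr e] at h
    exact h
  inj V r hr s h := by
    have h1 : germ (xi K Ω) (F := F) (fb r hr) s = germ (xi K Ω) (fb r hr) 0 :=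
      h.trans (map_zero ((Scheme.pointSmallEtale (xi K Ω)).toPresheafFiber V (fb r hr) F.obj).hom).symm
    obtain ⟨V', g, y, hy, h2⟩ := (germ_eq_iff (xi K Ω) _ _ _).1 h1
    obtain ⟨r', hr', rfl⟩ := fb_left y
    refine ⟨V', g, r', ?_, h2.trans (map_zero (F.obj.map g.op).hom)⟩
    exact congrArg (fun t => t.left) hy
  surj V r hr u := by
    obtain ⟨U, x, s, hs⟩ := germ_surj (xi K Ω) (F := F) u
    obtain ⟨W, a, b, w, hw1, hw2⟩ := exists_common (xi K Ω) x (fb r hr)
    obtain ⟨r', hr', rfl⟩ := fb_left w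
    refine ⟨W, b, r', hr', F.obj.map a.op s, congrArg (fun t => t.left) hw2, ?_⟩
    have h := germ_res (xi K Ω) (F := F) a (fb r' hr') s
    rw [hw1, hs] at h
    exact h

variable [Algebra.IsSeparable K Ω] {F : EtCoh.Ab (Spec (CommRingCat.of K))}

/-- The stalk of a lattice is finitely generated. -/
theorem finite_of_fin {S : Type v} [AddCommGroup S] (E : Stk Ω F S) (hF : Fin' F) : Module.Finite ℤ S := by
  obtain ⟨N, _, _, _, _, hN, hfin⟩ := hF
  obtain ⟨φ⟩ : Nonempty (N →ₐ[K] Ω) := ⟨IsSepClosed.lift⟩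
  let r : Spec (CommRingCat.of Ω) ⟶ (etObj K N).left := Spec.map (CommRingCat.ofHom φ.toRingHom)
  have hr : r ≫ (etObj K N).hom = xi K Ω := by
    change Spec.map _ ≫ Spec.map _ = Spec.map _
    rw [← Spec.map_comp, ← CommRingCat.ofHom_comp]
    congr 2
    exact φ.comp_algebraMap
  have hsurj : Function.Surjective (E.ev (etObj K N) r hr) := by
    intro u
    obtain ⟨V', k, r', hr', s, hk, hs⟩ := E.surj (etObj K N) r hr u
    obtain ⟨L, a, ha⟩ := exists_fac V' r' hr'
    have : Algebra.IsSeparable K L.1 := inferInstance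
    obtain ⟨c, hc⟩ := Split.sep hN L.1 (a ≫ k) (F.obj.map a.op s)
    refine ⟨c, ?_⟩
    have h1 := E.nat (a ≫ k) (rL L) (rL_hom L) r hr (by rw [← hk, ← ha, Category.assoc]; rfl) c
    have h2 := E.nat a (rL L) (rL_hom L) r' hr' ha s
    rw [← h1, ← hs, ← h2]
    exact congrArg (E.ev (VL K Ω L) (rL L) (rL_hom L)) hc
  exact Module.Finite.of_surjective (E.ev (etObj K N) r hr).toIntLinearMap hsurj

omit [Algebra.IsSeparable K Ω] [IsSepClosed Ω] in
/-- The stalk of a torsion free sheaf is torsion free. -/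
theorem tf_of_tf {S : Type v} [AddCommGroup S] (E : Stk Ω F S)
    (htf : ∀ (n : ℕ) (U : (Spec (CommRingCat.of K)).Etale) (s : EtCoh.sect F U), n ≠ 0 → n • s = 0 → s = 0)
    (n : ℕ) (s : S) (hn : n ≠ 0) (hs : n • s = 0) : s = 0 := by
  obtain ⟨V', k, r', hr', a, hk, ha⟩ := E.surj (EtCoh.top (Spec (CommRingCat.of K))) (xi K Ω)
    (Category.comp_id _) s
  have h1 : E.ev V' r' hr' (n • a) = 0 := by rw [map_nsmul, ha, hs]
  obtain ⟨V₂, k₂, r₂, hk₂, h0⟩ := E.inj V' r' hr' _ h1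
  rw [map_nsmul] at h0
  have h2 := htf n V₂ _ hn h0
  have hr₂ : r₂ ≫ V₂.hom = xi K Ω := hom_of_fac k₂ r₂ r' hr' hk₂
  rw [← ha, ← E.nat k₂ r₂ hr₂ r' hr' hk₂, h2, map_zero]

end Groth.Agent.Dix.K109.PullFin

namespace Groth.Agent.Dix.K109.PullFin

open Groth.Agent.Lefpen.H365.FieldPts Groth.Agent.Dix.K282.StkData
open Groth.Agent.CurvesA.EtFieldObj Groth.Agent.CurvesA.EtFieldFin Groth.Agent.CurvesA.EtFieldTors
open Groth.Agent.EtpbcA.StalkTools

section Pull

variable (k K Ω : Type u) [Field k] [Field K] [Field Ω] [Algebra k K] [Algebra K Ω] [Algebra k Ω]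
  [IsScalarTower k K Ω] [IsSepClosed Ω]

theorem xi_xi : xi K Ω ≫ Spec.map (CommRingCat.ofHom (algebraMap k K)) = xi k Ω := by
  change Spec.map _ ≫ Spec.map _ = Spec.map _
  rw [← Spec.map_comp, ← CommRingCat.ofHom_comp, ← IsScalarTower.algebraMap_eq]

/-- The stalk of the pullback. -/
noncomputable def stkIso (G : EtCoh.Ab (Spec (CommRingCat.of k))) : (EtCoh.stalk (xi k Ω)).obj G ≃+
    (EtCoh.stalk (xi K Ω)).obj ((EtCoh.pull (Spec.map (CommRingCat.ofHom (algebraMap k K)))).obj G) :=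
  ((eqToIso (congrArg (fun ξ => (EtCoh.stalk ξ).obj G) (xi_xi k K Ω).symm)) ≪≫
    (Groth.Agent.Etbase.StalkPull.stalkPullIso (Spec.map (CommRingCat.ofHom (algebraMap k K))) (xi K Ω)).app
      G).addCommGroupIsoToAddEquiv

variable [Algebra.IsSeparable k Ω] [Algebra.IsSeparable K Ω] {G : EtCoh.Ab (Spec (CommRingCat.of k))}

include Ω in
theorem fin_pull (hF : Fin' G) :
    Fin' ((EtCoh.pull (Spec.map (CommRingCat.ofHom (algebraMap k K)))).obj G) := by
  have h1 : Module.Finite ℤ ((EtCoh.stalk (xi k Ω)).obj G) := finite_of_fin (stkOf G) hF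
  have h2 : Module.Finite ℤ ((EtCoh.stalk (xi K Ω)).obj
      ((EtCoh.pull (Spec.map (CommRingCat.ofHom (algebraMap k K)))).obj G)) :=
    Module.Finite.equiv (stkIso k K Ω G).toIntLinearEquiv
  exact StkFin.fin_of_stk (stkOf (Ω := Ω) _)

include Ω in
omit [Algebra.IsSeparable k Ω] in
theorem tf_pull
    (htf : ∀ (n : ℕ) (U : (Spec (CommRingCat.of k)).Etale) (s : EtCoh.sect G U), n ≠ 0 → n • s = 0 → s = 0)
    (n : ℕ) (U : (Spec (CommRingCat.of K)).Etale)
    (s : EtCoh.sect ((EtCoh.pull (Spec.map (CommRingCat.ofHom (algebraMap k K)))).obj G) U)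
    (hn : n ≠ 0) (hs : n • s = 0) : s = 0 := by
  refine StkFin.torsion_free (Ω := Ω) (stkOf _) (fun m a hm ha => ?_) n U s hn hs
  apply (stkIso k K Ω G).symm.injective
  rw [map_zero]
  apply tf_of_tf (stkOf G) htf m _ hm
  rw [← map_nsmul, ha, map_zero]

end Pull

end Groth.Agent.Dix.K109.PullFin
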