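import Groth.Agent.Dix.K109.ScdTower
import Groth.Agent.Dix.K109.CycTow
import Groth.Agent.Dix.K109.ConstGen
import Groth.Agent.Lefpen.H717.ConstRed
import Groth.Agent.TateLoc.K773.EtExp

/-!
# `H³(K, F) = 0` for lattices `F` over fields of strict cohomological dimension `2`

* `CycCd K p` : algebraic extensions of `K` containing all `p`-power roots of unity have `cd_p ≤ 1`;
* `noTors_int` : `H³(K, ℤ)` has no `p`-torsion if `CycCd K p` and `ζ_{p²} ∈ K`;
* `subsingleton_H3` : `H³(K, F) = 0` for `F` torsion free and split by a finite extension, with finitely generated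
  sections, if for every prime `p` either `cd_p(K) ≤ 1`, or `p ≠ 0` in `K`, `cd_p(K) ≤ 2` and `CycCd K p`.
-/

set_option autoImplicit false
set_option backward.isDefEq.respectTransparency.types false
universe u

open CategoryTheory CategoryTheory.Limits AlgebraicGeometry Opposite CategoryTheory.Abelian

namespace Groth.Agent.Dix.K109.Scd

open ConstEl ConstGen
open Groth.Agent.CurvesA.EtFieldObj Groth.Agent.CurvesA.EtFieldDesc Groth.Agent.CurvesA.EtFieldTr
open Groth.Agent.CurvesA.EtFieldFin Groth.Agent.CurvesA.EtFieldTors Groth.Agent.CurvesA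

/-- Algebraic extensions of `K` containing all `p`-power roots of unity have `cd_p ≤ 1`. -/
def CycCd (K : Type u) [Field K] (p : ℕ) : Prop :=
  ∀ (L : Type u) [Field L] [Algebra K L] [Algebra.IsAlgebraic K L],
    (∀ n : ℕ, ∃ ζ : L, IsPrimitiveRoot ζ (p ^ n)) → Dix.CohDimLEAt (Spec (CommRingCat.of L)) p 1

theorem CycCd.ext {K : Type u} [Field K] {p : ℕ} (h : CycCd K p) (N : Type u) [Field N] [Algebra K N]
    [Algebra.IsAlgebraic K N] : CycCd N p := by
  intro L _ _ _ hL
  let _ : Algebra K L := ((algebraMap N L).comp (algebraMap K N)).toAlgebra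
  have : IsScalarTower K N L := IsScalarTower.of_algebraMap_eq fun _ => rfl
  have : Algebra.IsAlgebraic K L := Algebra.IsAlgebraic.trans K N L
  exact h L hL

section General

variable {X : Scheme.{u}} {F : EtCoh.Ab X} {P : EtCoh.Ab X}

/-- No `p`-torsion if the cokernel of `p` has no cohomology in the previous degree. -/
theorem noTors_of_coker (p q : ℕ) (hm : Mono (p • 𝟙 F))
    (h : ∀ y : Ext P (cokernel (p • 𝟙 F)) q, y = 0) (x : Ext P F (q + 1)) (hx : p • x = 0) : x = 0 := by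
  have hS : (ShortComplex.mk (p • 𝟙 F) (cokernel.π (p • 𝟙 F)) (cokernel.condition _)).ShortExact :=
    { exact := ShortComplex.exact_of_g_is_cokernel _ (cokernelIsCokernel _)
      mono_f := hm
      epi_g := inferInstanceAs (Epi (cokernel.π _)) }
  obtain ⟨y, hy⟩ := Ext.covariant_sequence_exact₁ P hS x (by
    rw [ExtTwist.nsmul_eq] at hx
    exact hx) (n₀ := q) rfl
  rw [← hy, h y, Ext.zero_comp]

/-- `p`-divisibility if the cokernel of `p` has no cohomology. -/
theorem divisible_of_coker (p q : ℕ) (hm : Mono (p • 𝟙 F))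
    (h : ∀ y : Ext P (cokernel (p • 𝟙 F)) q, y = 0) (x : Ext P F q) : ∃ y : Ext P F q, p • y = x := by
  have hS : (ShortComplex.mk (p • 𝟙 F) (cokernel.π (p • 𝟙 F)) (cokernel.condition _)).ShortExact :=
    { exact := ShortComplex.exact_of_g_is_cokernel _ (cokernelIsCokernel _)
      mono_f := hm
      epi_g := inferInstanceAs (Epi (cokernel.π _)) }
  obtain ⟨y, hy⟩ := Ext.covariant_sequence_exact₂ P hS x (h _)
  refine ⟨y, ?_⟩
  rw [ExtTwist.nsmul_eq]
  exact hy

theorem killedBy_cokernel (p : ℕ) : EtCoh.KilledBy p (cokernel (p • 𝟙 F)) := by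
  have h : p • 𝟙 (cokernel (p • 𝟙 F)) = 0 := by
    rw [← cancel_epi (cokernel.π (p • 𝟙 F)), comp_zero, Preadditive.comp_nsmul, Category.comp_id]
    have h1 := cokernel.condition (p • 𝟙 F)
    rwa [Preadditive.nsmul_comp, Category.id_comp] at h1
  intro U s
  have h1 := hom_app_nsmul p (𝟙 (cokernel (p • 𝟙 F))) U s
  rw [h] at h1
  exact h1.symm.trans rfl

theorem mono_nsmul (htf : ∀ (n : ℕ) (U : X.Etale) (s : EtCoh.sect F U), n ≠ 0 → n • s = 0 → s = 0)
    (p : ℕ) (hp : p ≠ 0) : Mono (p • 𝟙 F) := by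
  refine Groth.Agent.Sga4h.FamTau.mono_of_inj _ fun V s hs => htf p V s hp ?_
  rw [hom_app_nsmul] at hs
  exact hs

end General

section Int

variable (K : Type u) [Field K] (p : ℕ) [hp : Fact p.Prime]

/-- `H³(K, ℤ)` has no `p`-torsion, from the vanishing of `H²(K, ℤ/p) ⟶ H²(K, ℤ/p^N)`. -/
theorem noTors_int_aux {X : Scheme.{u}}
    (h : ∀ x : Ext (EtCoh.const X ℤ) (EtCoh.const X (ZMod (p ^ 1))) 2,
      ∃ (e : ℕ) (f : ZMod (p ^ 1) →+ ZMod (p ^ (1 + e))), f 1 = ((p ^ e : ℕ) : ZMod (p ^ (1 + e))) ∧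
        x.comp (Ext.mk₀ (cmap _ f)) (add_zero 2) = 0)
    (y : Ext (EtCoh.const X ℤ) (EtCoh.const X ℤ) 3) (hy : p • y = 0) : y = 0 := by
  obtain ⟨w, hS⟩ := Groth.Agent.Lefpen.H717.ConstRed.const_shortExact X (p ^ 1) (pow_pos hp.out.pos _)
  obtain ⟨x, hx⟩ := Ext.covariant_sequence_exact₁ (EtCoh.const X ℤ) hS y (by
    have h1 : (p ^ 1) • y = 0 := by rw [pow_one]; exact hy
    rw [ExtTwist.nsmul_eq] at h1
    exact h1) (n₀ := 2) rfl
  obtain ⟨e, f, hf, hxf⟩ := h x
  obtain ⟨w', hS'⟩ := Groth.Agent.Lefpen.H717.ConstRed.const_shortExact X (p ^ (1 + e)) (pow_pos hp.out.pos _)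
  let φ : ShortComplex.mk _ _ w ⟶ ShortComplex.mk _ _ w' :=
    { τ₁ := 𝟙 _
      τ₂ := (p ^ e) • 𝟙 _
      τ₃ := cmap _ f
      comm₁₂ := by
        dsimp only
        rw [Category.id_comp, Preadditive.comp_nsmul, Category.comp_id, smul_smul, pow_add, mul_comm]
      comm₂₃ := by
        change ((p ^ e) • 𝟙 (EtCoh.const X ℤ)) ≫ cmap X (Int.castAddHom (ZMod (p ^ (1 + e)))) =
          cmap X (Int.castAddHom (ZMod (p ^ 1))) ≫ cmap X f
        apply hom_ext_int
        rw [Preadditive.nsmul_comp, Category.id_comp, evl_nsmul, evl_cmap, evl_cmap', evl_cmap',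
          ← map_nsmul]
        congr 1
        change (p ^ e) • ((1 : ℤ) : ZMod (p ^ (1 + e))) = f ((1 : ℤ) : ZMod (p ^ 1))
        rw [Int.cast_one, Int.cast_one, hf, nsmul_one] }
  have h2 := ShortComplex.ShortExact.extClass_naturality hS hS' φ
  change hS.extClass.comp (Ext.mk₀ (𝟙 _)) (add_zero 1) = (Ext.mk₀ (cmap _ f)).comp hS'.extClass (zero_add 1) at h2
  rw [Ext.comp_mk₀_id] at h2
  rw [← hx]
  have h3 : x.comp hS.extClass (show 2 + 1 = 3 from rfl) = 0 := by
    rw [h2, ← Ext.comp_assoc_of_second_deg_zero, hxf, Ext.zero_comp]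
  exact h3

/-- `H³(K, ℤ)` has no `p`-torsion. -/
theorem noTors_int (h : CycCd K p) (hprim : ∃ ζ : K, IsPrimitiveRoot ζ (p ^ 2))
    (y : Ext (EtCoh.const (Spec (CommRingCat.of K)) ℤ) (EtCoh.const (Spec (CommRingCat.of K)) ℤ) 3)
    (hy : p • y = 0) : y = 0 := by
  have hpK : (p : K) ≠ 0 := by
    intro h0
    obtain ⟨ζ, hζ⟩ := hprim
    have h1 : NeZero (((p ^ 2 : ℕ)) : K) := hζ.neZero' (n := p ^ 2)
    apply h1.out
    rw [Nat.cast_pow, h0]
    simp
  by_cases hK : ∀ n : ℕ, ∃ ζ : K, IsPrimitiveRoot ζ (p ^ n)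
  · have h1 : Dix.CohDimLEAt (Spec (CommRingCat.of K)) p 1 := h K hK
    refine noTors_int_aux p (fun x => ?_) y hy
    refine ⟨0, AddMonoidHom.id _, by simp, ?_⟩
    have h2 : Dix.IsPrimaryTorsion p (EtCoh.const (Spec (CommRingCat.of K)) (ZMod (p ^ 1))) :=
      Groth.Agent.Etbc.H231.CycTower.isPrimaryTorsion_of_killedBy (ScdTower.killedBy_const_pow _)
    have h3 := h1 _ h2 2 (by norm_num)
    rw [h3.elim x 0, Ext.zero_comp]
  · obtain ⟨L, _, _, halg, hroots, hgen⟩ := CycTow.exists_cyc K p hpK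
    obtain ⟨hsep, E, σ, hmono, hun, hfd, hgal, hrk, hE, hgen'⟩ :=
      CycTow.exists_tower p K L hprim hroots hgen hK
    exact noTors_int_aux p (fun x => ScdTower.vanish E hmono σ hE hfd hgal hrk hgen' hun hpK hroots hgen
      (h L hroots) 1 one_pos x) y hy

end Int

/-- A finite Galois extension containing a primitive `m`-th root of unity. -/
theorem exists_prim_ext (K : Type u) [Field K] (m : ℕ) (hm : (m : K) ≠ 0) :
    ∃ (L : Type u) (_ : Field L) (_ : Algebra K L) (_ : FiniteDimensional K L) (_ : IsGalois K L),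
      ∃ ζ : L, IsPrimitiveRoot ζ m := by
  have : NeZero (m : K) := ⟨hm⟩
  have hm0 : NeZero m := ⟨by rintro rfl; exact hm Nat.cast_zero⟩
  exact ⟨CyclotomicField m K, inferInstance, inferInstance, IsCyclotomicExtension.finiteDimensional {m} K _,
    IsCyclotomicExtension.isGalois {m} K _, _, IsCyclotomicExtension.zeta_spec m K (CyclotomicField m K)⟩

section Lattice

variable (K : Type u) [Field K] {F : EtCoh.Ab (Spec (CommRingCat.of K))}
  (hF : Fin' F) (htf : ∀ (n : ℕ) (U : (Spec (CommRingCat.of K)).Etale) (s : EtCoh.sect F U),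
    n ≠ 0 → n • s = 0 → s = 0)

theorem van_coker (p q d : ℕ) (hq : d < q) (hcd : Dix.CohDimLEAt (Spec (CommRingCat.of K)) p d)
    (y : Ext (ZL K K) (cokernel (p • 𝟙 F)) q) : y = 0 := by
  have h2 : Dix.IsPrimaryTorsion p (cokernel (p • 𝟙 F)) :=
    Groth.Agent.Etbc.H231.CycTower.isPrimaryTorsion_of_killedBy (k := 1) (by
      rw [pow_one]
      exact killedBy_cokernel p)
  have h3 := hcd _ h2 q hq
  exact (EtFieldH.HEquiv (cokernel (p • 𝟙 F)) q).symm.injective (h3.elim _ _)

include hF htf in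
/-- `p`-torsion of `H³(K, F)` for a lattice `F`. -/
theorem noTors_lattice (p : ℕ) [hp : Fact p.Prime] (hpK : (p : K) ≠ 0)
    (hcd : Dix.CohDimLEAt (Spec (CommRingCat.of K)) p 2) (h : CycCd K p)
    (y : Ext (ZL K K) F 3) (hy : p • y = 0) : y = 0 := by
  obtain ⟨N, _, _, _, _, hN, hNfin⟩ := hF
  -- a larger splitting field containing the roots of unity
  obtain ⟨C, _, _, _, _, ζ, hζ⟩ := exists_prim_ext K (p ^ 2) (by rw [Nat.cast_pow]; exact pow_ne_zero _ hpK)
  obtain ⟨M, _, _, _, _, ⟨φ⟩, ⟨ψ⟩⟩ := exists_galois (K := K) N C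
  have hMprim : ∃ ζ : M, IsPrimitiveRoot ζ (p ^ 2) := ⟨_, hζ.map_of_injective ψ.toRingHom.injective⟩
  have hM : Split M F := Split.mono (etMap φ) hN
  have hMfin : Module.Finite ℤ (F.obj.obj (op (etObj K M))) := by
    have hsurj := hN M (etMap φ)
    exact Module.Finite.of_surjective ((F.obj.map (etMap φ).op).hom.toIntLinearMap) hsurj
  -- the restriction to `M`
  have hsR : Split M (R M F) := split_R hM
  let e0 : F.obj.obj (op (etObj K M)) →ₗ[ℤ] (R M F).obj.obj (op (etObj M M)) :=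
    (F.obj.map (compIso (K := K) (L := M) M).hom.op).hom.toIntLinearMap
  have he0 : Function.Bijective e0 := bijective_iso F (compIso (K := K) (L := M) M)
  have hfinR : Module.Finite ℤ ((R M F).obj.obj (op (etObj M M))) := Module.Finite.of_surjective e0 he0.2
  have htfR : ∀ (n : ℕ) (s : (R M F).obj.obj (op (etObj M M))), n ≠ 0 → n • s = 0 → s = 0 := by
    intro n s hn hs
    exact htf n ((EtShriek.compEtale (etObj K M).hom).obj (etObj M M)) s hn hs
  have hfreeR : Module.Free ℤ ((R M F).obj.obj (op (etObj M M))) := by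
    have : Module.IsTorsionFree ℤ ((R M F).obj.obj (op (etObj M M))) := by
      rw [Module.isTorsionFree_int_iff_isAddTorsionFree]
      refine ⟨fun n hn a b hab => ?_⟩
      have h1 : n • (a - b) = 0 := by
        rw [smul_sub, sub_eq_zero]
        exact hab
      exact sub_eq_zero.1 (htfR n _ hn h1)
    infer_instance
  have hcM : CycCd M p := h.ext M
  have hresM : ∀ z : Ext (ZL K M) F 3, p • z = 0 → z = 0 := by
    intro z hz
    let e := AcycEtale.extEquivH (etObj K M) F 3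
    apply e.injective
    rw [map_zero]
    refine noTors_of_split (K := M) (G := R M F) hsR hfinR hfreeR (P := EtCoh.const _ ℤ) p 3
      (fun y hy => noTors_int M p hcM hMprim y hy) (e z) ?_
    have h1 := map_nsmul e p z
    rw [hz, map_zero] at h1
    exact h1.symm
  have hresM' : ∀ (s : ℕ) (z : Ext (ZL K M) F 3), (p ^ s) • z = 0 → z = 0 := by
    intro s
    induction s with
    | zero => intro z hz; rwa [pow_zero, one_smul] at hz
    | succ s ih =>
      intro z hz
      apply ih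
      apply hresM
      rw [smul_smul, ← pow_succ', hz]
  -- divisibility
  have hdiv : ∀ (s : ℕ) (z : Ext (ZL K K) F 3), ∃ z', (p ^ s) • z' = z := by
    intro s
    induction s with
    | zero => intro z; exact ⟨z, by rw [pow_zero, one_smul]⟩
    | succ s ih =>
      intro z
      obtain ⟨z₁, hz₁⟩ := ih z
      obtain ⟨z₂, hz₂⟩ := divisible_of_coker p 3 (mono_nsmul htf p hp.out.ne_zero)
        (van_coker K p 3 2 (by norm_num) hcd) z₁
      exact ⟨z₂, by rw [pow_succ, mul_smul, hz₂, hz₁]⟩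
  obtain ⟨s, d', hd', hd⟩ := Nat.exists_eq_pow_mul_and_not_dvd (n := Module.finrank K M)
    (Module.finrank_pos).ne' p hp.out.ne_one
  obtain ⟨y₁, hy₁⟩ := hdiv s y
  have h1 : ExtStep.res (Zm (can K K M)) F 3 y₁ = 0 := by
    apply hresM' (s + 1)
    rw [← map_nsmul, pow_succ', mul_smul, hy₁, hy, map_zero]
  have h2 := K773.EtExp.nsmul_of_res_zero F 3 M y₁ h1
  rw [hd, mul_comm, mul_smul, hy₁] at h2
  -- `d' y = 0` and `p y = 0`
  have hcop : Nat.Coprime d' p := (Nat.coprime_comm.1 ((Nat.Prime.coprime_iff_not_dvd hp.out).2 hd'))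
  have h3 : addOrderOf y ∣ d' := addOrderOf_dvd_of_nsmul_eq_zero h2
  have h4 : addOrderOf y ∣ p := addOrderOf_dvd_of_nsmul_eq_zero hy
  have h5 : addOrderOf y = 1 := Nat.eq_one_of_dvd_coprimes hcop h3 h4
  exact AddMonoid.addOrderOf_eq_one_iff.1 h5

include hF htf in
/-- **`H³(K, F) = 0` for lattices over fields with `scd ≤ 2`.** -/
theorem ext_three_eq_zero (hK : ∀ p : ℕ, p.Prime → Dix.CohDimLEAt (Spec (CommRingCat.of K)) p 1 ∨
      ((p : K) ≠ 0 ∧ Dix.CohDimLEAt (Spec (CommRingCat.of K)) p 2 ∧ CycCd K p))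
    (y : Ext (ZL K K) F 3) : y = 0 := by
  have key : ∀ p : ℕ, p.Prime → ∀ z : Ext (ZL K K) F 3, p • z = 0 → z = 0 := by
    intro p hp z hz
    have : Fact p.Prime := ⟨hp⟩
    rcases hK p hp with h | ⟨h1, h2, h3⟩
    · exact noTors_of_coker p 2 (mono_nsmul htf p hp.ne_zero) (van_coker K p 2 1 (by norm_num) h) z hz
    · exact noTors_lattice K hF htf p h1 h2 h3 z hz
  obtain ⟨n, hn, hny⟩ := K773.EtExp.exists_nsmul_ext F 2 K y
  induction n using Nat.recOnMul generalizing y with
  | zero => omega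
  | one => rwa [one_smul] at hny
  | prime p hp => exact key p hp y hny
  | mul a b iha ihb =>
    have ha : 0 < a := Nat.pos_of_ne_zero (by rintro rfl; simp at hn)
    have hb : 0 < b := Nat.pos_of_ne_zero (by rintro rfl; simp at hn)
    apply ihb y hb
    exact iha (b • y) ha (by rw [smul_smul, hny])

include hF htf in
/-- **`H³(K, F) = 0` for lattices over fields with `scd ≤ 2`.** -/
theorem subsingleton_H3 (hK : ∀ p : ℕ, p.Prime → Dix.CohDimLEAt (Spec (CommRingCat.of K)) p 1 ∨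
      ((p : K) ≠ 0 ∧ Dix.CohDimLEAt (Spec (CommRingCat.of K)) p 2 ∧ CycCd K p)) :
    Subsingleton (EtCoh.H (Spec (CommRingCat.of K)) F 3) :=
  EtFieldH.subsingleton_H F 3 (ext_three_eq_zero K hF htf hK)

end Lattice

end Groth.Agent.Dix.K109.Scd
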