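import Groth.Agent.Dix.K109.StkFin
import Groth.Agent.Dix.K109.Scd
import Groth.Agent.Dix.K282.RealEnd

/-!
# Invariant Brauer classes on tori over fields `K` with `H³(K, lattice) = 0`
-/

set_option autoImplicit false
universe u
open CategoryTheory CategoryTheory.Limits AlgebraicGeometry Opposite TensorProduct
open scoped Groth.Agent.Etcore.EtInst
open Groth.Agent.Etcore.EtInst

namespace Groth.Agent.Dix.K109.TorusH3

open Groth.Agent.Lefpen.H365.FieldPts Groth.Agent.Dix.K282.StkData Groth.Agent.Dix.K282.PMap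
open Groth.Agent.Dix.K282.QuadDesc Groth.Agent.Dix.K282.UnitsMA Groth.Agent.Dix.K282.AlgStk
open Groth.Agent.Dix.K282.TorusStk Groth.Agent.Dix.K282.Assemble Groth.Agent.Dix.K282.Pointed
open Groth.Agent.Dix.K282.GeoVan Groth.Agent.CurvesA.EtFieldFin

attribute [local instance] Algebra.TensorProduct.rightAlgebra

variable {K Ω : Type u} [Field K] [Field Ω] [Algebra K Ω] {A : Type u} [CommRing A] [Algebra K A]
  (ε : A →ₐ[K] K) {n : ℕ} (S : Spl Ω (Multiplicative (Fin n → ℤ)) (ptA (Ω := Ω) ε))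

/-- The character lattice. -/
noncomputable def chE : (Fin n → ℤ) ≃ₗ[ℤ] (mA Ω ε).ker :=
  ((AddEquiv.additiveMultiplicative (Fin n → ℤ)).symm.trans (monE ε S)).toIntLinearEquiv

variable [Algebra.IsSeparable K Ω] [IsSepClosed Ω]

include S in
/-- The kernel of evaluation is a lattice. -/
theorem fin_KK : Fin' (KK ε) ∧
    ∀ (n : ℕ) (U : (Spec (CommRingCat.of K)).Etale) (s : EtCoh.sect (KK ε) U), n ≠ 0 → n • s = 0 → s = 0 := by
  have hfree : Module.Free ℤ (mA Ω ε).ker := Module.Free.of_equiv (chE ε S)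
  have hfin : Module.Finite ℤ (mA Ω ε).ker := Module.Finite.equiv (chE ε S)
  exact ⟨StkFin.fin_of_stk (stkK Ω ε), StkFin.torsion_free (stkK Ω ε) fun k m hk h =>
    Groth.Agent.Dix.K282.RealMain.torsionFree k hk m h⟩

include S in
theorem eH_injective
    (h3 : ∀ F : EtCoh.Ab (Spec (CommRingCat.of K)), Fin' F →
      (∀ (n : ℕ) (U : (Spec (CommRingCat.of K)).Etale) (s : EtCoh.sect F U), n ≠ 0 → n • s = 0 → s = 0) →
      Subsingleton (EtCoh.H (Spec (CommRingCat.of K)) F 3)) :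
    Function.Injective (eH (sp K A) (EtCoh.Gm (Spec (CommRingCat.of A))) (2 + 1)) := by
  refine eH_injective_of_ker ε 2 fun y _ => ?_
  obtain ⟨h1, h2⟩ := fin_KK ε S
  have := h3 _ h1 h2
  exact Subsingleton.elim (α := EtCoh.H _ _ 3) _ _

/-- **Invariant Brauer classes on a torus** over a field with `H³(K, lattice) = 0`. -/
theorem main (k : Type u) [Field k] (Ω : Type u) [Field Ω] [Algebra k Ω] [IsSepClosure k Ω]
    (h3 : ∀ F : EtCoh.Ab (Spec (CommRingCat.of k)), Fin' F →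
      (∀ (n : ℕ) (U : (Spec (CommRingCat.of k)).Etale) (s : EtCoh.sect F U), n ≠ 0 → n • s = 0 → s = 0) →
      Subsingleton (EtCoh.H (Spec (CommRingCat.of k)) F 3))
    (A : Type u) [CommRing A] [HopfAlgebra k A] (hT : SGA3b.IsTorus k A)
    [∀ ⦃Y Z : Scheme.{u}⦄ (g : Y ⟶ Z), PreservesFiniteLimits (EtCoh.pull g)] :
    Dix.brInv Ω (sp k A) ≤ (EtLim.HGmPull (pullback.fst (sp k A) (xi k Ω)) 2).range := by
  have h1 : Algebra.IsSeparable k Ω := IsSepClosure.separable
  have h2 : IsSepClosed Ω := IsSepClosure.sep_closed k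
  obtain ⟨n, ⟨e⟩⟩ := Groth.Agent.Dix.K282.RealEnd.exists_iso (Ω := Ω) A hT
  obtain ⟨S⟩ := nonempty_spl (ptA (Ω := Ω) (Bialgebra.counitAlgHom k A)) e
  refine Groth.Agent.Dix.K282.BrLift.brInv_le_range _
    (Groth.Agent.Dix.K282.RealEnd.isZero_R1 (Ω := Ω) e.toRingEquiv) ?_
  rw [edge_injective_iff]
  exact eH_injective (Bialgebra.counitAlgHom k A) S h3

end Groth.Agent.Dix.K109.TorusH3
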