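import Groth.Agent.Etcore.FieldLim
import Groth.Agent.Etcore.HC
import Mathlib.FieldTheory.IsAlgClosed.AlgebraicClosure
import Mathlib.Order.Zorn

/-!
# Maximal algebraic extensions on which a cohomology class survives

`exists_min`: a non-zero class `y ∈ H^n(k, F)` survives on an algebraic extension `E` such that it dies on all
non-trivial finite extensions of `E`.
-/

set_option autoImplicit false
universe u
open CategoryTheory CategoryTheory.Limits AlgebraicGeometry Opposite Abelian
open scoped Groth.Agent.Etcore.EtInst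
open Groth.Agent.Etcore.EtInst Groth.Agent.Etcore.HpullCalc Groth.Agent.Etcore.PullCoh
  Groth.Agent.Etcore.HpVia Groth.Agent.Etcore.FGLim Groth.Agent.Etcore.HC Groth.Agent.Etcore.PullbackLim
  Groth.Agent.Etcore

namespace Groth.Agent.Dix.K109.ZornMin

attribute [local instance] Groth.Agent.S0101.result

/-- `Spec E ⟶ Spec k`. -/
noncomputable abbrev sx (k E : Type u) [CommRing k] [CommRing E] [Algebra k E] :
    Spec (CommRingCat.of E) ⟶ Spec (CommRingCat.of k) :=
  Spec.map (CommRingCat.ofHom (algebraMap k E))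

theorem sx_fac {k B E : Type u} [CommRing k] [CommRing B] [CommRing E] [Algebra k B] [Algebra k E] (φ : B →ₐ[k] E) :
    Spec.map (CommRingCat.ofHom φ.toRingHom) ≫ sx k B = sx k E := by
  rw [← Spec.map_comp, ← CommRingCat.ofHom_comp]
  congr 2
  exact φ.comp_algebraMap

variable {k : Type u} [Field k] {F : EtCoh.Ab (Spec (CommRingCat.of k))} {n : ℕ}
  (y : HH (Spec (CommRingCat.of k)) F n)

theorem hp_eq_zero_of_algHom {B E : Type u} [CommRing B] [CommRing E] [Algebra k B] [Algebra k E] (φ : B →ₐ[k] E)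
    (h : hp (sx k B) F n y = 0) : hp (sx k E) F n y = 0 := by
  rw [← hpVia_hp (Spec.map (CommRingCat.ofHom φ.toRingHom)) (sx k B) (sx k E) (sx_fac φ) F n y, h, map_zero]

/-- The projections. -/
noncomputable def pr (k E : Type u) [Field k] [Field E] [Algebra k E] (B : (FGSub k E)ᵒᵖ) :
    Spec (CommRingCat.of E) ⟶ (specSys (fgSys k E)).obj B :=
  Spec.map ((fgCocone k E).ι.app B.unop)

theorem pr_map (k E : Type u) [Field k] [Field E] [Algebra k E] ⦃a b : (FGSub k E)ᵒᵖ⦄ (h : a ⟶ b) :
    pr k E a ≫ (specSys (fgSys k E)).map h = pr k E b := (specCone (fgSys k E) (fgCocone k E)).w h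

theorem pr_str (k E : Type u) [Field k] [Field E] [Algebra k E] (a : (FGSub k E)ᵒᵖ) :
    pr k E a ≫ FieldLim.str k E a = sx k E := FieldLim.str_cone k E a

/-- `Spec E` is the limit of the spectra of the finitely generated subalgebras. -/
noncomputable def prLim (k E : Type u) [Field k] [Field E] [Algebra k E] :
    IsLimit (LimHBase.mkCone (specSys (fgSys k E)) (Spec (CommRingCat.of E)) (pr k E) (pr_map k E)) :=
  isLimitSpecCone _ _ (isColimitFG k E)

/-- A class which dies on `E` dies on a finitely generated subalgebra. -/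
theorem exists_fg (E : Type u) [Field E] [Algebra k E] (h : hp (sx k E) F n y = 0) :
    ∃ B : FGSub k E, hp (sx k B.1) F n y = 0 := by
  have h1 : hpVia (pr k E (op ⊥)) (FieldLim.str k E (op ⊥)) (sx k E)
      (pr_str k E (op ⊥)) F n (hp (FieldLim.str k E (op ⊥)) F n y) = 0 := by
    rw [hpVia_hp]
    exact h
  obtain ⟨B, hB, h2⟩ := LimH.exists_zero_of_limit (specSys (fgSys k E)) (fun _ _ h => isAffineHom_specSys _ h)
    (fun a => inferInstance) (fun a => inferInstance) (Spec (CommRingCat.of E))
    (pr k E) (pr_map k E) (prLim k E) (FieldLim.str k E) (FieldLim.str_map k E) (sx k E)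
    (pr_str k E) F n ⊥ (hp (FieldLim.str k E (op ⊥)) F n y) h1
  rw [hpVia_hp] at h2
  exact ⟨B, h2⟩

variable (Ω : Type u) [Field Ω] [Algebra k Ω]

theorem exists_max [Algebra.IsAlgebraic k Ω] (hy : y ≠ 0) : ∃ E : IntermediateField k Ω, hp (sx k E) F n y ≠ 0 ∧
    ∀ E' : IntermediateField k Ω, E ≤ E' → hp (sx k E') F n y ≠ 0 → E' ≤ E := by
  obtain ⟨E, -, hE⟩ := zorn_le_nonempty₀ {E : IntermediateField k Ω | hp (sx k E) F n y ≠ 0} (by
    intro c hc hchain y₀ hy₀
    refine ⟨sSup c, ?_, fun z hz => le_sSup hz⟩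
    intro h0
    have h0' : hp (sx k ↥(sSup c : IntermediateField k Ω)) F n y = 0 := h0
    obtain ⟨B, hB⟩ := exists_fg y ↥(sSup c : IntermediateField k Ω) h0'
    obtain ⟨t, ht⟩ := B.2
    have : Nonempty c := ⟨⟨y₀, hy₀⟩⟩
    have hdir : Directed (· ≤ ·) (fun E : c => (E : IntermediateField k Ω)) :=
      hchain.directedOn.directed_val
    have hmem : ∀ x : t, ∃ E : c, ((x : ↥(sSup c : IntermediateField k Ω)) : Ω) ∈ (E : IntermediateField k Ω) := by
      intro x
      have h1 : (((x : ↥(sSup c : IntermediateField k Ω)) : Ω)) ∈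
          ((⨆ E : c, (E : IntermediateField k Ω) : IntermediateField k Ω) : Set Ω) := by
        rw [← sSup_eq_iSup']
        exact (x : ↥(sSup c : IntermediateField k Ω)).2
      rw [IntermediateField.coe_iSup_of_directed hdir, Set.mem_iUnion] at h1
      exact h1
    choose E hE using hmem
    obtain ⟨E', hE'⟩ := hdir.finite_le E
    have hle : B.1 ≤ (E' : IntermediateField k Ω).toSubalgebra.comap (sSup c : IntermediateField k Ω).val := by
      rw [← ht]
      refine Algebra.adjoin_le fun x hx => ?_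
      exact hE' ⟨x, hx⟩ (hE ⟨x, hx⟩)
    let φ : B.1 →ₐ[k] (E' : IntermediateField k Ω) :=
      AlgHom.codRestrict ((sSup c : IntermediateField k Ω).val.comp B.1.val)
        (E' : IntermediateField k Ω).toSubalgebra fun b => hle b.2
    exact hc E'.2 (hp_eq_zero_of_algHom y φ hB)) ⊥ (by
      intro h0
      apply hy
      have h1 : hp (sx k ↥(⊥ : IntermediateField k Ω)) F n y = 0 := h0
      have h2 : Spec.map (CommRingCat.ofHom (IntermediateField.botEquiv k Ω).toAlgHom.toRingHom) ≫
          sx k ↥(⊥ : IntermediateField k Ω) = 𝟙 _ := by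
        rw [sx_fac, sx, Algebra.algebraMap_self]
        exact Spec.map_id _
      exact (injective_iff_map_eq_zero _).1 (hp_injective_of_section _ _ h2 F n) y h1)
  exact ⟨E, hE.prop, fun E' h1 h2 => hE.le_of_ge h2 h1⟩

/-- **A class survives on an algebraic extension all of whose finite extensions kill it.** -/
theorem exists_min [Algebra.IsAlgebraic k Ω] [IsAlgClosed Ω] (hy : y ≠ 0) :
    ∃ E : IntermediateField k Ω, hp (sx k E) F n y ≠ 0 ∧
      ∀ (L : Type u) [Field L] [Algebra E L] [FiniteDimensional E L], Module.finrank E L ≠ 1 →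
        hp (sx E L) _ n (hp (sx k E) F n y) = 0 := by
  obtain ⟨E, hE, hmax⟩ := exists_max y Ω hy
  refine ⟨E, hE, ?_⟩
  intro L _ _ _ hL
  let φ : L →ₐ[E] Ω := IsAlgClosed.lift
  let E' : IntermediateField k Ω := φ.fieldRange.restrictScalars k
  have hle : E ≤ E' := by
    intro x hx
    exact ⟨algebraMap E L ⟨x, hx⟩, φ.commutes _⟩
  have hE' : hp (sx k E') F n y = 0 := by
    by_contra hc
    have hge : E' ≤ E := hmax E' hle hc
    have hbij : Function.Bijective (algebraMap E L) := by
      refine ⟨(algebraMap E L).injective, fun y => ?_⟩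
      have h1 : φ y ∈ E := hge ⟨y, rfl⟩
      refine ⟨⟨φ y, h1⟩, φ.injective ?_⟩
      exact φ.commutes _
    exact hL ((LinearEquiv.ofBijective (Algebra.linearMap E L) hbij).finrank_eq.symm.trans
      (Module.finrank_self E))
  let _ : Algebra k L := ((algebraMap E L).comp (algebraMap k E)).toAlgebra
  have : IsScalarTower k E L := IsScalarTower.of_algebraMap_eq fun _ => rfl
  have h1 : hp (sx k L) F n y = 0 := by
    let e : L ≃ₐ[E] φ.fieldRange := AlgEquiv.ofInjectiveField φ
    let ψ : ↥E' →ₐ[k] L := (e.symm.toAlgHom.restrictScalars k : φ.fieldRange →ₐ[k] L)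
    exact hp_eq_zero_of_algHom y ψ hE'
  have hw : sx E L ≫ sx k E = sx k L := by
    rw [sx, sx, ← Spec.map_comp, ← CommRingCat.ofHom_comp]
  apply (HHmap_bijective (th (sx E L) (sx k E) (sx k L) hw F) n).1
  rw [hp_eq_th, h1, map_zero]

end Groth.Agent.Dix.K109.ZornMin
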