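import Groth.Agent.Dix.K109.BaseCh
import Groth.Agent.Dix.K109.Core
import Groth.Agent.Dix.K109.PullFin
import Groth.Agent.Dix.K109.ZornMin
import Groth.Agent.Dix.K109.TorusH3

/-!
# Invariant Brauer classes on tori over algebraic extensions of `ℚ`
-/

set_option autoImplicit false
universe u
open CategoryTheory CategoryTheory.Limits AlgebraicGeometry Opposite TensorProduct
open scoped Groth.Agent.Etcore.EtInst
open Groth.Agent.Etcore.EtInst

namespace Groth.Agent.Dix.K109.NfMain

open Groth.Agent.Lefpen.H365.FieldPts Groth.Agent.Dix.K282.StkData Groth.Agent.Dix.K282.PMap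
open Groth.Agent.Dix.K282.QuadDesc Groth.Agent.Dix.K282.UnitsMA Groth.Agent.Dix.K282.AlgStk
open Groth.Agent.Dix.K282.TorusStk Groth.Agent.Dix.K282.Assemble Groth.Agent.Dix.K282.Pointed
open Groth.Agent.Dix.K282.GeoVan Groth.Agent.CurvesA.EtFieldFin
open Groth.Agent.Etcore.HpullCalc

attribute [local instance] Algebra.TensorProduct.rightAlgebra
attribute [local instance] Groth.Agent.S0101.result

section Torus

variable (k E Ω A : Type u) [Field k] [Field E] [Field Ω] [Algebra k E] [Algebra E Ω] [Algebra k Ω]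
  [IsScalarTower k E Ω] [CommRing A] [Algebra k A]

/-- The base change square. -/
theorem isPullback : IsPullback
    (Spec.map (CommRingCat.ofHom (Algebra.TensorProduct.includeRight : A →ₐ[k] E ⊗[k] A).toRingHom))
    (sp E (E ⊗[k] A)) (sp k A) (xi k E) :=
  (isPullback_SpecMap_of_isPushout _ _ _ _ (CommRingCat.isPushout_tensorProduct k E A)).flip

/-- The base change of a splitting. -/
noncomputable def splitE {n : ℕ} (e : Ω ⊗[k] A ≃ₐ[Ω] MonoidAlgebra Ω (Multiplicative (Fin n → ℤ))) :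
    (E ⊗[k] A) ⊗[E] Ω ≃ₐ[Ω] MonoidAlgebra Ω (Multiplicative (Fin n → ℤ)) :=
  (Algebra.TensorProduct.commRight E Ω (E ⊗[k] A)).symm.trans
    ((Algebra.TensorProduct.cancelBaseChange k E Ω Ω A).trans e)

variable {k A} in
/-- The base change of a point. -/
noncomputable def ptE (ε : A →ₐ[k] k) : E ⊗[k] A →ₐ[E] E :=
  Algebra.TensorProduct.lift (AlgHom.id E E) ((Algebra.ofId k E).comp ε) (fun _ _ => Commute.all _ _)

end Torus

/-- The edge map of a torus over a real closed field. -/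
theorem eH_injective_real (k E Ω A : Type u) [Field k] [Field E] [Field Ω] [Algebra k E] [Algebra E Ω] [Algebra k Ω]
    [IsScalarTower k E Ω] [CommRing A] [Algebra k A] [IsSepClosure E Ω] (hE : RealWk.Wk E) (ε : A →ₐ[k] k) {n : ℕ}
    (e : Ω ⊗[k] A ≃ₐ[Ω] MonoidAlgebra Ω (Multiplicative (Fin n → ℤ))) :
    Function.Injective (eH (sp E (E ⊗[k] A)) (EtCoh.Gm (Spec (CommRingCat.of (E ⊗[k] A)))) (2 + 1)) := by
  have h0 : CharZero E := Groth.Agent.Etbc.H201.RealOdd.charZero hE.real
  have hfr : Module.finrank E Ω = 2 := RealWk.finrank_sepClosure hE Ω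
  have h1 : FiniteDimensional E Ω := FiniteDimensional.of_finrank_pos (by omega)
  have h2 : IsGalois E Ω := IsSepClosure.isGalois
  have h3 : IsAlgClosure E Ω := inferInstance
  have h4 : IsAlgClosed Ω := h3.isAlgClosed
  obtain ⟨D, hD⟩ := Groth.Agent.Dix.K282.RealEnd.exists_quad E Ω hfr
  obtain ⟨S⟩ := nonempty_spl (ptA (Ω := Ω) (ptE E ε)) (splitE k E Ω A e)
  exact Groth.Agent.Dix.K282.RealMain.eH_injective_torus D (ptE E ε) S hD

/-- **The edge map of a torus is injective in degree 3** over algebraic extensions of `ℚ`. -/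
theorem eH_injective (k : Type u) [Field k] [CharZero k] [Algebra.IsAlgebraic ℚ k] (Ω : Type u) [Field Ω]
    [Algebra k Ω] [IsSepClosure k Ω] (A : Type u) [CommRing A] [Algebra k A] (ε : A →ₐ[k] k) {n : ℕ}
    (e : Ω ⊗[k] A ≃ₐ[Ω] MonoidAlgebra Ω (Multiplicative (Fin n → ℤ))) :
    Function.Injective (eH (sp k A) (EtCoh.Gm (Spec (CommRingCat.of A))) (2 + 1)) := by
  have h1 : Algebra.IsSeparable k Ω := IsSepClosure.separable
  have h2 : IsSepClosed Ω := IsSepClosure.sep_closed k
  have h3 : IsAlgClosure k Ω := inferInstance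
  have h4 : IsAlgClosed Ω := h3.isAlgClosed
  obtain ⟨S⟩ := nonempty_spl (ptA (Ω := Ω) ε) ((Algebra.TensorProduct.commRight k Ω A).symm.trans e)
  obtain ⟨hF, htf⟩ := TorusH3.fin_KK ε S
  refine eH_injective_of_ker ε 2 fun y hy => ?_
  by_contra hne
  obtain ⟨E, hE, hmin⟩ := ZornMin.exists_min y Ω hne
  have h5 : CharZero E := charZero_of_injective_algebraMap (algebraMap k E).injective
  have h6 : IsScalarTower ℚ k E := inferInstance
  have h7 : Algebra.IsAlgebraic ℚ E := Algebra.IsAlgebraic.trans ℚ k E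
  have h8 : Algebra.IsSeparable E Ω := inferInstance
  have h9 : IsSepClosure E Ω := ⟨inferInstance, inferInstance⟩
  have hWk : RealWk.Wk E := Core.core E (PullFin.fin_pull k E Ω hF) (PullFin.tf_pull k E Ω htf)
    (hp (ZornMin.sx k E) _ 3 y) hE hmin
  apply hE
  have h10 : hp (xi k E) (P (sp k A)) 3 (HHmap (kernel.ι _) 3 y) = 0 :=
    BaseCh.hp_eq_zero (isPullback k E A) 3 (eH_injective_real k E Ω A hWk ε e) _ hy
  have h11 := congrArg (HHmap ((EtCoh.pull (xi k E)).map (retr _ _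
    (Pmap_split ε (Algebra.ofId k A) (Subsingleton.elim _ _)))) 3) h10
  rw [← hp_map, ← HHmap_comp, ι_retr, HHmap_id, map_zero] at h11
  exact h11

/-- **Invariant Brauer classes on a torus** over an algebraic extension of `ℚ`. -/
theorem main (k : Type u) [Field k] [CharZero k] [Algebra.IsAlgebraic ℚ k] (Ω : Type u) [Field Ω] [Algebra k Ω]
    [IsSepClosure k Ω] (A : Type u) [CommRing A] [HopfAlgebra k A] (hT : SGA3b.IsTorus k A)
    [∀ ⦃Y Z : Scheme.{u}⦄ (g : Y ⟶ Z), PreservesFiniteLimits (EtCoh.pull g)] :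
    Dix.brInv Ω (sp k A) ≤ (EtLim.HGmPull (pullback.fst (sp k A) (xi k Ω)) 2).range := by
  have h1 : Algebra.IsSeparable k Ω := IsSepClosure.separable
  have h2 : IsSepClosed Ω := IsSepClosure.sep_closed k
  obtain ⟨n, ⟨e⟩⟩ := Groth.Agent.Dix.K282.TorusSplit.exists_split k Ω A hT
  have e' : Ω ⊗[k] A ≃ₐ[Ω] MonoidAlgebra Ω (Multiplicative (Fin n → ℤ)) := (e : _ ≃ₐ[Ω] _)
  refine Groth.Agent.Dix.K282.BrLift.brInv_le_range _
    (Groth.Agent.Dix.K282.RealEnd.isZero_R1 (Ω := Ω)
      ((Algebra.TensorProduct.commRight k Ω A).symm.trans e').toRingEquiv) ?_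
  rw [edge_injective_iff]
  exact eH_injective k Ω A (Bialgebra.counitAlgHom k A) e'

end Groth.Agent.Dix.K109.NfMain
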