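import Groth.Agent.Dix.K109.LocCd
import Groth.Agent.AzInv.K925.HensInt
import Mathlib.NumberTheory.Padics.RingHoms
import Mathlib.NumberTheory.LocalField.Basic

/-!
# Finite extensions of `ℚ_p` and nonarchimedean local fields of characteristic zero satisfy `IsLF`
-/

set_option autoImplicit false
universe u
open AlgebraicGeometry CategoryTheory Polynomial Opposite

namespace Groth.Agent.Dix.K109.PadicLF

open Groth.Agent.Etbc Groth.Agent.Etbc.H226.NFDefs

theorem henselian_of_complete (R : Type*) [CommRing R] [IsLocalRing R]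
    [IsAdicComplete (IsLocalRing.maximalIdeal R) R] : HenselianLocalRing R where
  is_henselian f hf a₀ h1 h2 :=
    HenselianRing.is_henselian (I := IsLocalRing.maximalIdeal R) f hf a₀ h1 (h2.map _)

theorem isLF_padic (p : ℕ) [Fact p.Prime] : IsLF (ULift.{u} ℚ_[p]) := by
  have h0 : CharZero (ULift.{u} ℚ_[p]) :=
    charZero_of_injective_ringHom (f := (ULift.ringEquiv.{0, u} (R := ℚ_[p])).symm.toRingHom)
      (ULift.ringEquiv (R := ℚ_[p])).symm.injective
  have hdom : IsDomain (ULift.{u} ℤ_[p]) := (ULift.ringEquiv (R := ℤ_[p])).toMulEquiv.isDomain _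
  refine ⟨h0, ULift.{u} ℤ_[p], inferInstance, hdom, ?_⟩
  let al : ULift.{u} ℤ_[p] →+* ULift.{u} ℚ_[p] :=
    ((ULift.ringEquiv (R := ℚ_[p])).symm.toRingHom.comp (algebraMap ℤ_[p] ℚ_[p])).comp
      (ULift.ringEquiv (R := ℤ_[p])).toRingHom
  let _ : Algebra (ULift.{u} ℤ_[p]) (ULift.{u} ℚ_[p]) := al.toAlgebra
  have hdvr : IsDiscreteValuationRing (ULift.{u} ℤ_[p]) :=
    IsDiscreteValuationRing.RingEquivClass.isDiscreteValuationRing (ULift.ringEquiv (R := ℤ_[p])).symm
  refine ⟨al.toAlgebra, hdvr, ?_, ?_, ?_⟩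
  · have : HenselianLocalRing ℤ_[p] := henselian_of_complete ℤ_[p]
    exact K925.HensInt.henselian_of_ringEquiv (ULift.ringEquiv (R := ℤ_[p])).symm
  · have hal : Function.Injective al := by
      intro x y hxy
      have h1 : algebraMap ℤ_[p] ℚ_[p] x.down = algebraMap ℤ_[p] ℚ_[p] y.down := congrArg ULift.down hxy
      exact ULift.down_injective ((IsFractionRing.injective ℤ_[p] ℚ_[p]) h1)
    have hfs : @FaithfulSMul (ULift.{u} ℤ_[p]) (ULift.{u} ℚ_[p]) al.toAlgebra.toSMul :=
      @FaithfulSMul.mk _ _ al.toAlgebra.toSMul (fun {x y} hxy => by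
        have h1 := hxy 1
        rw [Algebra.smul_def, Algebra.smul_def, mul_one, mul_one] at h1
        exact hal h1)
    refine @IsFractionRing.of_field _ _ _ _ al.toAlgebra hfs fun z => ?_
    obtain ⟨x, y, hy, hz⟩ := IsFractionRing.div_surjective (A := ℤ_[p]) z.down
    refine ⟨⟨x⟩, ⟨y⟩, ?_⟩
    apply ULift.down_injective
    exact hz.symm
  · have hf : Finite (IsLocalRing.ResidueField ℤ_[p]) :=
      Finite.of_equiv _ (PadicInt.residueField (p := p)).symm.toEquiv
    exact Finite.of_equiv _ (IsLocalRing.ResidueField.mapEquiv (ULift.ringEquiv.{0, u} (R := ℤ_[p])).symm).toEquiv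

/-- A finite extension of `ℚ_p` is a local field. -/
theorem isLF_of_finite_padic (p : ℕ) [Fact p.Prime] (k : Type u) [Field k] [Algebra ℚ_[p] k]
    [FiniteDimensional ℚ_[p] k] : IsLF k := by
  let al : ULift.{u} ℚ_[p] →+* k := (algebraMap ℚ_[p] k).comp (ULift.ringEquiv (R := ℚ_[p])).toRingHom
  have h1 : (algebraMap ℚ_[p] k).Finite := RingHom.finite_algebraMap.2 inferInstance
  have h : al.Finite := h1.comp (RingHom.Finite.of_surjective _ (ULift.ringEquiv (R := ℚ_[p])).surjective)
  exact @H205.C2.isLF_of_finite (ULift.{u} ℚ_[p]) k _ _ al.toAlgebra h (isLF_padic p)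

open scoped ValuativeRel in
/-- A nonarchimedean local field of characteristic zero. -/
theorem isLF_of_localField (k : Type u) [Field k] [ValuativeRel k] [TopologicalSpace k]
    [IsNonarchimedeanLocalField k] [CharZero k] : IsLF k := by
  refine ⟨inferInstance, 𝒪[k], inferInstance, inferInstance, inferInstance, inferInstance, ?_, ?_, ?_⟩
  · let _ := IsTopologicalAddGroup.rightUniformSpace k
    have := isUniformAddGroup_of_addCommGroup (G := k)
    exact henselian_of_complete 𝒪[k]
  · infer_instance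
  · exact (inferInstance : Finite 𝓀[k])

end Groth.Agent.Dix.K109.PadicLF
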