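import Groth.Agent.Dix.K109.NegCup
import Groth.Agent.Dix.K109.AdjKill
import Groth.Agent.Dix.K109.KumTower
import Groth.Agent.Lefpen.H717.ConstRed
import Groth.Agent.Etbc.H201.CycVan
import Groth.Agent.CurvesA.EtFieldH

/-!
# The symbols `{c}` on the étale cohomology of a field, `c ∈ Kˣ`, and quadratic extensions

* `cI : ℤ_K ≅ ℤ`, `gC c : ℤ ⟶ G_m`, `Sy c ∈ Ext²(ℤ, ℤ)` for `c ∈ Kˣ`;
* `Sy_comp_eq_zero`: `y ∈ H^n(K, F)` with `y|_L = 0`, `c = b σ(b)` a norm from the quadratic extension `L`: `{c} y = 0`;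
* `eq_zero`: a class which dies on `K(√a)` and `K(√-a)` is zero if `H^n` and `H^{n+1}` of `K(√-1)` vanish.
-/

set_option autoImplicit false
set_option backward.isDefEq.respectTransparency.types false
universe u
open CategoryTheory CategoryTheory.Limits AlgebraicGeometry Opposite Abelian
open scoped Groth.Agent.Etcore.EtInst
open Groth.Agent.Etcore.EtInst

namespace Groth.Agent.Dix.K109.QuadStep

open Groth.Agent.CurvesA Groth.Agent.CurvesA.EtFieldObj Groth.Agent.CurvesA.EtFieldDesc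
  Groth.Agent.CurvesA.EtFieldTr Groth.Agent.Sga4h.MuConst Groth.Agent.Sga4h.ConstCrit ConstEl NegCup
open Groth.Agent.Etcore.HpullCalc

attribute [local instance] Groth.Agent.S0101.result

section Const

variable (K : Type u) [Field K]

/-- `Spec K` as an étale scheme over itself, as the final object. -/
noncomputable def τ : EtCoh.top (Spec (CommRingCat.of K)) ⟶ etObj K K :=
  (EtFieldH.isTerminal_etObj K).from _

theorem toTop_τ : toTop (etObj K K) ≫ τ K = 𝟙 _ := (EtFieldH.isTerminal_etObj K).hom_ext _ _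

theorem τ_toTop : τ K ≫ toTop (etObj K K) = 𝟙 _ := toTop_unique _ _

/-- `ℤ_K ⟶ ℤ`. -/
noncomputable def cIhom : ZL K K ⟶ EtCoh.const (Spec (CommRingCat.of K)) ℤ :=
  SiteZU.lift ((EtCoh.const (Spec (CommRingCat.of K)) ℤ).obj.map (toTop (etObj K K)).op (evl (𝟙 _) 1))

variable {K} in
theorem ev_cIhom_comp {F : EtCoh.Ab (Spec (CommRingCat.of K))} (f : EtCoh.const (Spec (CommRingCat.of K)) ℤ ⟶ F) :
    SiteZU.ev (cIhom K ≫ f) = F.obj.map (toTop (etObj K K)).op (evl f 1) := by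
  rw [SiteZU.ev_comp, cIhom, SiteZU.ev_lift]
  have h1 := NatTrans.naturality_apply f.hom (toTop (etObj K K)).op (evl (𝟙 _) 1)
  refine h1.trans ?_
  rw [← evl_comp, Category.id_comp]

/-- `ℤ_K = ℤ`. -/
noncomputable def cI : ZL K K ≅ EtCoh.const (Spec (CommRingCat.of K)) ℤ where
  hom := cIhom K
  inv := elZ (ZL K K) ((ZL K K).obj.map (τ K).op (SiteZU.univ _))
  hom_inv_id := by
    apply SiteZU.ev_injective
    rw [ev_cIhom_comp, evl_elZ]
    change ((ZL K K).obj.map (τ K).op ≫ (ZL K K).obj.map (toTop (etObj K K)).op) (SiteZU.univ _) = _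
    rw [← Functor.map_comp, ← op_comp, toTop_τ, op_id, (ZL K K).obj.map_id]
    rfl
  inv_hom_id := by
    apply hom_ext_int
    rw [evl_comp, evl_elZ]
    have h1 := NatTrans.naturality_apply (cIhom K).hom (τ K).op (SiteZU.univ _)
    refine h1.trans ?_
    have h2 : (cIhom K).hom.app (op (etObj K K)) (SiteZU.univ _) =
      (EtCoh.const (Spec (CommRingCat.of K)) ℤ).obj.map (toTop (etObj K K)).op (evl (𝟙 _) 1) :=
      SiteZU.ev_lift _
    rw [h2]
    change ((EtCoh.const (Spec (CommRingCat.of K)) ℤ).obj.map (toTop (etObj K K)).op ≫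
      (EtCoh.const (Spec (CommRingCat.of K)) ℤ).obj.map (τ K).op) (evl (𝟙 _) 1) = _
    rw [← Functor.map_comp, ← op_comp, τ_toTop, op_id, (EtCoh.const (Spec (CommRingCat.of K)) ℤ).obj.map_id]
    rfl

end Const

section Units

variable {K : Type u} [Field K] {L M : Type u} [Field L] [Algebra K L] [FiniteDimensional K L]
  [Algebra.IsSeparable K L] [Field M] [Algebra K M] [FiniteDimensional K M] [Algebra.IsSeparable K M]

/-- The unit `b` as a function on `Spec L`. -/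
noncomputable def uG (b : Lˣ) : Γ((etObj K L).left, ⊤)ˣ := KumTower.toΓ b

theorem uG_mul (b b' : Lˣ) : uG (K := K) (b * b') = uG b * uG b' := map_mul _ b b'

theorem uG_map (φ : L →ₐ[K] M) (b : Lˣ) :
    Units.map (etMap φ).left.appTop.hom.toMonoidHom (uG b) = uG (K := K) (Units.map (φ : L →* M) b) := by
  apply Units.ext
  have h := Scheme.ΓSpecIso_inv_naturality (CommRingCat.ofHom φ.toRingHom)
  exact (ConcreteCategory.congr_hom h (b : L)).symm

/-- The section `b` of `G_m` over `Spec L`. -/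
noncomputable def gS (b : Lˣ) : (EtCoh.Gm (Spec (CommRingCat.of K))).obj.obj (op (etObj K L)) :=
  gmMk (W := etObj K L) (uG b)

theorem gS_mul (b b' : Lˣ) : gS (K := K) (b * b') = gS b + gS b' := by
  apply gmVal_injective
  exact uG_mul b b'

theorem gS_map (φ : L →ₐ[K] M) (b : Lˣ) :
    (EtCoh.Gm (Spec (CommRingCat.of K))).obj.map (etMap φ).op (gS b) = gS (Units.map (φ : L →* M) b) := by
  apply gmVal_injective
  rw [gmVal_map]
  exact uG_map φ b

/-- The morphism `ℤ_L ⟶ G_m` given by `b ∈ Lˣ`. -/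
noncomputable def gL (b : Lˣ) : ZL K L ⟶ EtCoh.Gm (Spec (CommRingCat.of K)) := SiteZU.lift (gS b)

theorem gL_mul (b b' : Lˣ) : gL (K := K) (b * b') = gL b + gL b' := by
  apply SiteZU.ev_injective
  rw [map_add, gL, gL, gL, SiteZU.ev_lift, SiteZU.ev_lift, SiteZU.ev_lift, gS_mul]

theorem gL_one : gL (K := K) (1 : Lˣ) = 0 := by
  have h := gL_mul (K := K) (1 : Lˣ) 1
  rw [mul_one] at h
  exact left_eq_add.1 h

theorem gL_inv (b : Lˣ) : gL (K := K) b⁻¹ = - gL b := by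
  rw [eq_neg_iff_add_eq_zero, ← gL_mul, inv_mul_cancel, gL_one]

theorem map_gL (φ : L →ₐ[K] M) (b : Lˣ) : Zm (etMap φ) ≫ gL (K := K) b = gL (Units.map (φ : L →* M) b) := by
  rw [gL, SiteZU.map_comp_lift, gS_map]
  rfl

/-- The morphism `ℤ ⟶ G_m` given by `c ∈ Kˣ`. -/
noncomputable def gC (c : Kˣ) : EtCoh.const (Spec (CommRingCat.of K)) ℤ ⟶ EtCoh.Gm (Spec (CommRingCat.of K)) :=
  (cI K).inv ≫ gL c

theorem gC_mul (c c' : Kˣ) : gC (c * c') = gC c + gC c' := by
  rw [gC, gL_mul, Preadditive.comp_add]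
  rfl

/-- `ℤ_L ⟶ ℤ`. -/
noncomputable def eps (K L : Type u) [Field K] [Field L] [Algebra K L] [FiniteDimensional K L]
    [Algebra.IsSeparable K L] : ZL K L ⟶ EtCoh.const (Spec (CommRingCat.of K)) ℤ :=
  Zm (can K K L) ≫ (cI K).hom

theorem eps_gC (c : Kˣ) : eps K L ≫ gC c = gL (Units.map (algebraMap K L : K →* L) c) := by
  rw [eps, gC, Category.assoc, Iso.hom_inv_id_assoc, can, map_gL]
  rfl

end Units

section Kum

variable {K : Type u} [Field K] (h2 : (2 : K) ≠ 0)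

include h2 in
theorem prim_neg_one : IsPrimitiveRoot (-1 : Kˣ) 2 := by
  refine IsPrimitiveRoot.mk_of_lt (-1 : Kˣ) (by norm_num) (by simp) fun l h0 hl h1 => ?_
  have hl1 : l = 1 := by omega
  subst hl1
  rw [pow_one] at h1
  have h3 : (-1 : K) = 1 := by
    have h4 := congrArg (fun x : Kˣ => (x : K)) h1
    simpa using h4
  apply h2
  linear_combination -h3

/-- The Kummer map `ℤ/2 ⟶ G_m`. -/
noncomputable def th : EtCoh.const (Spec (CommRingCat.of K)) (ZMod 2) ⟶ EtCoh.Gm (Spec (CommRingCat.of K)) :=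
  kz 2 (KumTower.toΓ (-1 : Kˣ)) (KumTower.isPrim (prim_neg_one h2)).pow_eq

theorem wK : th h2 ≫ (2 • 𝟙 (EtCoh.Gm (Spec (CommRingCat.of K)))) = 0 := kz_zero 2 _ _

/-- The Kummer sequence. -/
theorem hK : (ShortComplex.mk (th h2) (2 • 𝟙 (EtCoh.Gm (Spec (CommRingCat.of K)))) (wK h2)).ShortExact := by
  have hn : ((2 : ℕ) : K) ≠ 0 := by exact_mod_cast h2
  have hu := Groth.Agent.CurvesA.SpCurveH1.isUnit_natCast (𝟙 (Spec (CommRingCat.of K))) 2 hn
  have he := Groth.Agent.CurvesA.SpCurveH1.epi_powMap (𝟙 (Spec (CommRingCat.of K))) 2 hn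
  exact shortExact_kummer 2 (by norm_num) hu _ (KumTower.isPrim (prim_neg_one h2)) he

variable (K) in
/-- Reduction modulo 2. -/
noncomputable abbrev pi2 : EtCoh.const (Spec (CommRingCat.of K)) ℤ ⟶ EtCoh.const (Spec (CommRingCat.of K)) (ZMod 2) :=
  Groth.Agent.Lefpen.H717.ConstRed.zq (Spec (CommRingCat.of K)) 2

variable (K) in
theorem wB : (2 • 𝟙 (EtCoh.const (Spec (CommRingCat.of K)) ℤ)) ≫ pi2 K = 0 :=
  (Groth.Agent.Lefpen.H717.ConstRed.const_shortExact (Spec (CommRingCat.of K)) 2 (by norm_num)).choose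

variable (K) in
theorem hB : (ShortComplex.mk (2 • 𝟙 (EtCoh.const (Spec (CommRingCat.of K)) ℤ)) (pi2 K) (wB K)).ShortExact :=
  (Groth.Agent.Lefpen.H717.ConstRed.const_shortExact (Spec (CommRingCat.of K)) 2 (by norm_num)).choose_spec

theorem evl_pi2 {F : EtCoh.Ab (Spec (CommRingCat.of K))} (f : EtCoh.const (Spec (CommRingCat.of K)) (ZMod 2) ⟶ F) :
    evl (pi2 K ≫ f) 1 = evl f 1 := by
  have h := evl_cmap (V := Spec (CommRingCat.of K)) (Int.castAddHom (ZMod 2)) f 1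
  have h1 : (Int.castAddHom (ZMod 2)) 1 = 1 := Int.cast_one
  exact h.trans (congrArg _ h1)

theorem pi2_th : pi2 K ≫ th h2 = gC (-1 : Kˣ) := by
  rw [← cancel_epi (cI K).hom, gC, Iso.hom_inv_id_assoc]
  apply SiteZU.ev_injective
  refine (ev_cIhom_comp _).trans ?_
  rw [evl_pi2, th, kz, evl_el, gL, SiteZU.ev_lift]
  apply gmVal_injective
  rw [gmVal_map]
  apply Units.ext
  have h := Scheme.ΓSpecIso_inv_naturality (CommRingCat.ofHom (algebraMap K K))
  exact (ConcreteCategory.congr_hom h ((-1 : Kˣ) : K)).symm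

/-- The class `{c} ∈ Ext²(ℤ, ℤ)`. -/
noncomputable def Sy (c : Kˣ) :
    Ext.{u + 1} (EtCoh.const (Spec (CommRingCat.of K)) ℤ) (EtCoh.const (Spec (CommRingCat.of K)) ℤ) 2 :=
  sym (hK h2) (hB K) (gC c)

theorem Sy_mul (c c' : Kˣ) : Sy h2 (c * c') = Sy h2 c + Sy h2 c' := by
  rw [Sy, gC_mul, map_add]
  rfl

end Kum

section Quad

/-- A quadratic extension `L = K(√a)`. -/
structure QExt (K L : Type u) [Field K] [Field L] [Algebra K L] (a : Kˣ) where
  /-- the conjugation -/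
  σ : L ≃ₐ[K] L
  gen : ∀ g : L ≃ₐ[K] L, ∃ i : ℕ, g = σ ^ i
  ord : orderOf σ = 2
  /-- the square root -/
  b : Lˣ
  hb : b * b = Units.map (algebraMap K L : K →* L) a
  hσ : Units.map (σ : L →* L) b = -b

variable {K L : Type u} [Field K] [Field L] [Algebra K L] [FiniteDimensional K L] [IsGalois K L] {a : Kˣ}
  (E : QExt K L a) (h2 : (2 : K) ≠ 0)

/-- The Galois conjugate. -/
theorem map_aut_gL (σ : L ≃ₐ[K] L) (b : Lˣ) :
    Zm (aut (K := K) σ) ≫ gL (K := K) b = gL (Units.map (σ : L →* L) b) := by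
  rw [aut, map_gL]
  rfl

include E in
theorem Nm_eq : EtFieldCyc.Nm (K := K) E.σ = 𝟙 _ + Zm (aut (K := K) E.σ) := by
  rw [EtFieldCyc.Nm, E.ord, Finset.sum_range_succ, Finset.sum_range_one, pow_zero, pow_one, aut_one]
  congr 1
  exact (SiteZU.ZU.{u + 1} (Spec (CommRingCat.of K)).smallEtaleTopology).map_id _

theorem Nm_gL (b : Lˣ) : EtFieldCyc.Nm (K := K) E.σ ≫ gL (K := K) b = gL (b * Units.map (E.σ : L →* L) b) := by
  rw [Nm_eq, Preadditive.add_comp, Category.id_comp, map_aut_gL, gL_mul]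

theorem D_gL (b : Lˣ) : EtFieldCyc.D (K := K) E.σ ≫ gL (K := K) b = gL (Units.map (E.σ : L →* L) b * b⁻¹) := by
  rw [EtFieldCyc.D, Preadditive.sub_comp, Category.id_comp, gL_mul, gL_inv, sub_eq_add_neg]
  congr 1
  exact map_aut_gL E.σ b

theorem comp_nsmul_Gm {A : EtCoh.Ab (Spec (CommRingCat.of K))} (g : A ⟶ EtCoh.Gm (Spec (CommRingCat.of K))) :
    g ≫ (2 • 𝟙 (EtCoh.Gm (Spec (CommRingCat.of K)))) = g + g := by
  rw [Preadditive.comp_nsmul, Category.comp_id, two_nsmul]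

include E in
theorem D_eps : EtFieldCyc.D (K := K) E.σ ≫ eps K L = 0 := by
  rw [eps, ← Category.assoc, EtFieldCyc.D_can, zero_comp]

include E in
theorem aut_eps : Zm (aut (K := K) E.σ) ≫ eps K L = eps K L := by
  have h := D_eps E
  rw [EtFieldCyc.D, Preadditive.sub_comp, Category.id_comp, sub_eq_zero] at h
  exact h

include E in
/-- The periodic sequences of the quadratic cover. -/
theorem exists_data : ∃ (I : EtCoh.Ab (Spec (CommRingCat.of K))) (i : I ⟶ ZL K L) (w₁ : i ≫ eps K L = 0)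
    (t : EtCoh.const (Spec (CommRingCat.of K)) ℤ ⟶ ZL K L) (d : ZL K L ⟶ I) (w₂ : t ≫ d = 0),
    (ShortComplex.mk i (eps K L) w₁).ShortExact ∧ (ShortComplex.mk t d w₂).ShortExact ∧
    d ≫ i = EtFieldCyc.D (K := K) E.σ ∧ eps K L ≫ t = EtFieldCyc.Nm (K := K) E.σ ∧
    t ≫ eps K L = 2 • 𝟙 (EtCoh.const (Spec (CommRingCat.of K)) ℤ) := by
  obtain ⟨c⟩ := Groth.Agent.Etbc.H201.CycVan.exists_cyc (K := K) E.σ E.gen
  have w₁ : c.i ≫ eps K L = 0 := by rw [eps, ← Category.assoc, c.w₁, zero_comp]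
  have w₂ : ((cI K).inv ≫ c.t) ≫ c.d = 0 := by rw [Category.assoc, c.w₂, comp_zero]
  have h₁ : (ShortComplex.mk c.i (eps K L) w₁).ShortExact := by
    let e : ShortComplex.mk c.i (Zm (can K K L)) c.w₁ ≅ ShortComplex.mk c.i (eps K L) w₁ :=
      ShortComplex.isoMk (Iso.refl _) (Iso.refl _) (cI K) (by simp) (by simp [eps])
    exact ShortComplex.shortExact_of_iso e c.h₁
  have h₂ : (ShortComplex.mk ((cI K).inv ≫ c.t) c.d w₂).ShortExact := by
    let e : ShortComplex.mk c.t c.d c.w₂ ≅ ShortComplex.mk ((cI K).inv ≫ c.t) c.d w₂ :=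
      ShortComplex.isoMk (cI K) (Iso.refl _) (Iso.refl _) (by simp) (by simp)
    exact ShortComplex.shortExact_of_iso e c.h₂
  have ht : eps K L ≫ ((cI K).inv ≫ c.t) = EtFieldCyc.Nm (K := K) E.σ := by
    rw [eps, Category.assoc, Iso.hom_inv_id_assoc, c.ht]
  refine ⟨c.I, c.i, w₁, (cI K).inv ≫ c.t, c.d, w₂, h₁, h₂, c.hd, ht, ?_⟩
  have he : Epi (eps K L) := h₁.epi_g
  rw [← cancel_epi (eps K L), ← Category.assoc, ht, Nm_eq, Preadditive.add_comp, Category.id_comp, aut_eps E,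
    Preadditive.comp_nsmul, Category.comp_id, two_nsmul]

/-- The class `{c}` vanishes on squares. -/
theorem Sy_sq (c : Kˣ) : Sy h2 (c * c) = 0 := by
  have h := (hK h2).comp_extClass
  change (Ext.mk₀ (2 • 𝟙 (EtCoh.Gm (Spec (CommRingCat.of K))))).comp (hK h2).extClass (zero_add 1) = 0 at h
  rw [Sy, gC_mul, ← comp_nsmul_Gm, sym_comp, sym_apply,
    ← Ext.comp_assoc (Ext.mk₀ (2 • 𝟙 (EtCoh.Gm (Spec (CommRingCat.of K))))) (hK h2).extClass (hB K).extClass
    (zero_add 1) rfl (by omega), h, Ext.zero_comp, Ext.comp_zero]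

include E in
/-- **Norms**: `{c} y = 0` if `y` dies on `L` and `c` is a norm from `L`. -/
theorem Sy_comp_eq_zero {F : EtCoh.Ab (Spec (CommRingCat.of K))} {n m : ℕ} (hm : 2 + n = m)
    (y : HH (Spec (CommRingCat.of K)) F n) (hy : hp (etObj K L).hom F n y = 0) (c : Kˣ) (b : Lˣ)
    (hc : Units.map (algebraMap K L : K →* L) c = b * Units.map (E.σ : L →* L) b) :
    (Sy h2 c).comp y hm = 0 := by
  obtain ⟨I, i, w₁, t, d, w₂, h₁, h₂, hdi, ht, hte⟩ := exists_data E
  have he : Epi (eps K L) := h₁.epi_g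
  have h3 : gC c = t ≫ gL (K := K) b := by
    rw [← cancel_epi (eps K L), eps_gC, hc, ← Category.assoc, ht, Nm_gL]
  rw [Sy, h3, sym_comp, Ext.comp_assoc (Ext.mk₀ t) (sym (hK h2) (hB K) (gL b)) y (zero_add 2) hm (by omega)]
  have h4 := AdjKill.comp_eq_zero (etObj K L).hom (etObj L L) (etObj K L) (EtFieldTors.compIso (K := K) (L := L) L) y hy
    hm (sym (hK h2) (hB K) (gL b))
  rw [h4, Ext.comp_zero]

include E in
/-- `{-a} y = 0` if `y` dies on `K(√a)`. -/
theorem Sy_neg_comp_eq_zero {F : EtCoh.Ab (Spec (CommRingCat.of K))} {n m : ℕ} (hm : 2 + n = m)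
    (y : HH (Spec (CommRingCat.of K)) F n) (hy : hp (etObj K L).hom F n y = 0) :
    (Sy h2 (-a)).comp y hm = 0 := by
  refine Sy_comp_eq_zero E h2 hm y hy (-a) E.b ?_
  rw [E.hσ, mul_neg, E.hb]
  apply Units.ext
  simp

end Quad

section Main

variable {K : Type u} [Field K] (h2 : (2 : K) ≠ 0)

include h2 in
/-- The product with `{-1}` is injective if the cohomology of `K(√-1)` vanishes. -/
theorem eq_zero_of_neg_one {L : Type u} [Field L] [Algebra K L] [FiniteDimensional K L] [IsGalois K L]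
    (E : QExt K L (-1)) {F : EtCoh.Ab (Spec (CommRingCat.of K))} (n : ℕ) (hn : ExtMid.Van (ZL K L) n F)
    (hn' : ExtMid.Van (ZL K L) (n + 1) F) (y : HH (Spec (CommRingCat.of K)) F n)
    (hy : (Sy h2 (-1)).comp y (Nat.add_comm 2 n) = 0) : y = 0 := by
  obtain ⟨I, i, w₁, t, d, w₂, h₁, h₂, hdi, ht, hte⟩ := exists_data E
  have e1 : eps K L ≫ pi2 K ≫ th h2 = gL (K := K) (Units.map (algebraMap K L : K →* L) (-1)) := by
    rw [pi2_th, eps_gC]
  have e2 : Units.map (E.σ : L →* L) E.b * E.b⁻¹ = Units.map (algebraMap K L : K →* L) (-1) := by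
    rw [E.hσ, neg_mul, mul_inv_cancel]
    apply Units.ext
    simp
  refine eq_zero_of_sym_neg h₁ h₂ (hK h2) (hB K) (gL E.b) ?_ ?_ hte n hn hn' y ?_
  · rw [comp_nsmul_Gm, ← gL_mul, E.hb, e1]
  · rw [hdi, D_gL, e2, e1]
  · rw [pi2_th]
    exact hy

include h2 in
/-- **A class which dies on `K(√a)` and `K(√-a)` is zero** if `H^n` and `H^{n+1}` of `K(√-1)` vanish. -/
theorem eq_zero {a : Kˣ} {L₁ : Type u} [Field L₁] [Algebra K L₁] [FiniteDimensional K L₁] [IsGalois K L₁]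
    (E₁ : QExt K L₁ a) {L₂ : Type u} [Field L₂] [Algebra K L₂] [FiniteDimensional K L₂] [IsGalois K L₂]
    (E₂ : QExt K L₂ (-a)) {L : Type u} [Field L] [Algebra K L] [FiniteDimensional K L] [IsGalois K L]
    (E : QExt K L (-1)) {F : EtCoh.Ab (Spec (CommRingCat.of K))} (n : ℕ) (hn : ExtMid.Van (ZL K L) n F)
    (hn' : ExtMid.Van (ZL K L) (n + 1) F) (y : HH (Spec (CommRingCat.of K)) F n)
    (hy₁ : hp (etObj K L₁).hom F n y = 0) (hy₂ : hp (etObj K L₂).hom F n y = 0) : y = 0 := by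
  refine eq_zero_of_neg_one h2 E n hn hn' y ?_
  have h1 := Sy_neg_comp_eq_zero E₁ h2 (Nat.add_comm 2 n) y hy₁
  have h3 := Sy_neg_comp_eq_zero E₂ h2 (Nat.add_comm 2 n) y hy₂
  rw [neg_neg] at h3
  have h4 : (-1 : Kˣ) = (-a * a) * (a⁻¹ * a⁻¹) := by
    apply Units.ext
    have ha := a.ne_zero
    simp only [Units.val_neg, Units.val_one, Units.val_mul, Units.val_inv_eq_inv_val]
    field_simp
  rw [h4, Sy_mul, Sy_mul, Sy_sq, add_zero, Ext.add_comp, h1, h3, add_zero]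

end Main

end Groth.Agent.Dix.K109.QuadStep
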