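import Groth.Agent.Etbc.H231.CycTower
import Groth.Agent.Etbc.H231.CycloTower
import Groth.Agent.Dix.K109.KumTower
import Groth.Agent.Dix.K109.ExtTwist

/-!
# `H²(K, ℤ/p^n) ⟶ H²(K, ℤ/p^N)` vanishes for large `N` when `cd_p(K(μ_{p^∞})) ≤ 1`

`K` a field, `p` a prime invertible in `K`, `L = K(μ_{p^∞})` the union of a tower of cyclic extensions of
degree `p ^ a` generated by `σ`.
-/

set_option autoImplicit false
set_option backward.isDefEq.respectTransparency.types false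
universe u

open CategoryTheory CategoryTheory.Limits AlgebraicGeometry Opposite CategoryTheory.Abelian

namespace Groth.Agent.Dix.K109.ScdTower

open Groth.Agent.Sga4h.FamTau ConstEl Semilin KumTower Groth.Agent.Sga4h.CycField

theorem killedBy_const_pow {X : Scheme.{u}} (N : ℕ) : EtCoh.KilledBy N (EtCoh.const X (ZMod N)) := by
  have h : N • 𝟙 (EtCoh.const X (ZMod N)) = 0 := by
    apply hom_ext_zmod
    rw [evl_nsmul, evl_one_zmod, ← evl_one_zmod (0 : EtCoh.const X (ZMod N) ⟶ EtCoh.const X (ZMod N)),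
      ← evl_nsmul, smul_zero]
  intro U s
  have h1 := hom_app_nsmul N (𝟙 (EtCoh.const X (ZMod N))) U s
  rw [h] at h1
  exact h1.symm.trans rfl

section Tower

variable {K L : Type u} [Field K] [Field L] [Algebra K L] (E : ℕ → IntermediateField K L) (hmono : Monotone E)
  (σ : L ≃ₐ[K] L) (hE : ∀ a, ∀ x ∈ E a, σ x ∈ E a) {p : ℕ} [hp : Fact p.Prime]
  (hfd : ∀ a, FiniteDimensional K (E a))
  (hgal : ∀ a, IsGalois K (E a)) (hrk : ∀ a, Module.finrank K (E a) = p ^ a)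
  (hgen : ∀ a (g : E a ≃ₐ[K] E a), ∃ k : ℕ, ∀ x : E a, ((g x : E a) : L) = (σ ^ k) (x : L))
  (hun : ∀ x : L, ∃ a, x ∈ E a)

include hE hfd hgal hrk hgen in
theorem pow_fix (a : ℕ) (x : L) (hx : x ∈ E a) : (σ ^ (p ^ a)) x = x := by
  have h1 := sa_pow_card E σ hE hfd hgal hrk hgen a
  have h2 := sa_pow_apply E σ hE a (p ^ a) ⟨x, hx⟩
  rw [h1] at h2
  exact h2.symm

include hE hfd hgal hrk hgen in
/-- `σ ^ (p ^ a)` acts non-trivially on the roots of unity. -/
theorem exists_level_exp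
    (hgenμ : IntermediateField.adjoin K {z : L | ∃ n : ℕ, z ^ (p ^ n) = 1} = ⊤) (a : ℕ) :
    ∃ e : ℕ, (∀ z : L, z ^ (p ^ e) = 1 → (σ ^ (p ^ a)) z = z) ∧
      ∃ z : L, z ^ (p ^ (e + 1)) = 1 ∧ (σ ^ (p ^ a)) z ≠ z := by
  classical
  have hex : ∃ n : ℕ, ∃ z : L, z ^ (p ^ n) = 1 ∧ (σ ^ (p ^ a)) z ≠ z := by
    by_contra hcon
    push Not at hcon
    have h1 : ∀ x : L, (σ ^ (p ^ a)) x = x := by
      intro x
      have hx : x ∈ IntermediateField.adjoin K {z : L | ∃ n : ℕ, z ^ (p ^ n) = 1} := by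
        rw [hgenμ]; trivial
      induction hx using IntermediateField.adjoin_induction with
      | mem y hy =>
        obtain ⟨n, hn⟩ := hy
        exact hcon n y hn
      | algebraMap y => exact (σ ^ (p ^ a)).commutes y
      | add y z _ _ hy hz => rw [map_add, hy, hz]
      | inv y _ hy => rw [map_inv₀, hy]
      | mul y z _ _ hy hz => rw [map_mul, hy, hz]
    have h2 := orderOf_saEquiv E σ hE hfd hgal hrk hgen (a + 1)
    have h3 : saEquiv E σ hE hfd (a + 1) ^ (p ^ a) = 1 := by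
      ext x
      rw [saEquiv_pow_apply, sa_pow_apply, h1]
      rfl
    have h4 := orderOf_dvd_of_pow_eq_one h3
    rw [h2] at h4
    have h5 := Nat.le_of_dvd (pow_pos hp.out.pos a) h4
    have h6 : p ^ a < p ^ (a + 1) := Nat.pow_lt_pow_right hp.out.one_lt (Nat.lt_succ_self a)
    omega
  obtain ⟨z, hz1, hz2⟩ := Nat.find_spec hex
  have h0 : Nat.find hex ≠ 0 := by
    intro h
    rw [h] at hz1
    apply hz2
    have : z = 1 := by simpa using hz1
    rw [this, map_one]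
  obtain ⟨e, he⟩ := Nat.exists_eq_succ_of_ne_zero h0
  refine ⟨e, fun w hw => ?_, z, by rwa [he] at hz1, hz2⟩
  by_contra hne
  exact Nat.find_min hex (show e < Nat.find hex by omega) ⟨w, hw, hne⟩

omit hp in
/-- `σ` acts on `μ_N` by a power. -/
theorem exists_exp {N : ℕ} (hN : 1 < N) {y : Lˣ} (hy : IsPrimitiveRoot y N) :
    ∃ c : ℕ, 0 < c ∧ ∀ z : Lˣ, z ^ N = 1 → Units.map (σ : L →+* L).toMonoidHom z = z ^ c := by
  have hN0 : NeZero N := ⟨by omega⟩
  have hyL : IsPrimitiveRoot (y : L) N := IsPrimitiveRoot.coe_units_iff.2 hy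
  obtain ⟨c, -, hc⟩ := hyL.eq_pow_of_pow_eq_one (ξ := σ (y : L)) (by rw [← map_pow, hyL.pow_eq_one, map_one])
  refine ⟨c, Nat.pos_of_ne_zero ?_, fun z hz => ?_⟩
  · rintro rfl
    rw [pow_zero] at hc
    have h1 : (y : L) = 1 := σ.injective (by rw [← hc, map_one])
    rw [h1] at hyL
    have := hyL.unique IsPrimitiveRoot.one
    omega
  · obtain ⟨i, -, hi⟩ := hyL.eq_pow_of_pow_eq_one (ξ := (z : L)) (by
      rw [← Units.val_pow_eq_pow_val, hz, Units.val_one])
    apply Units.ext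
    rw [Units.val_pow_eq_pow_val, ← hi]
    change σ ((z : L)) = _
    rw [← hi, map_pow, ← hc, ← pow_mul, ← pow_mul, mul_comm]

omit hp in
theorem iter_map (k : ℕ) (x : Lˣ) :
    (((Units.map (σ : L →+* L).toMonoidHom)^[k] x : Lˣ) : L) = (σ ^ k) (x : L) := by
  induction k with
  | zero => rfl
  | succ k ih =>
    rw [Function.iterate_succ_apply', pow_succ']
    change σ _ = σ ((σ ^ k) (x : L))
    rw [ih]

/-- The exponent computation. -/
theorem exponent {n e k c : ℕ} (hn : 0 < n) (hk : 0 < k) (hc0 : 0 < c) {y : Lˣ}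
    (hy : IsPrimitiveRoot y (p ^ (n + e)))
    (hc : ∀ z : Lˣ, z ^ (p ^ (n + e)) = 1 → Units.map (σ : L →+* L).toMonoidHom z = z ^ c)
    (h1 : ∀ z : L, z ^ (p ^ e) = 1 → (σ ^ k) z = z)
    (h2 : ∃ z : L, z ^ (p ^ (e + 1)) = 1 ∧ (σ ^ k) z ≠ z) :
    ∃ u : ℕ, c ^ k = 1 + p ^ e * u ∧ u.Coprime (p ^ (n + e)) := by
  have hpp := hp.out
  -- the action of `σ ^ k`
  have hck : ∀ z : Lˣ, z ^ (p ^ (n + e)) = 1 → (σ ^ k) (z : L) = (z : L) ^ (c ^ k) := by
    intro z hz
    rw [← iter_map]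
    have key : ∀ j : ℕ, (Units.map (σ : L →+* L).toMonoidHom)^[j] z = z ^ (c ^ j) := by
      intro j
      induction j with
      | zero => simp
      | succ j ih =>
        rw [Function.iterate_succ_apply', ih, hc _ (by rw [← pow_mul, mul_comm, pow_mul, hz, one_pow]),
          ← pow_mul, ← pow_succ]
    rw [key, Units.val_pow_eq_pow_val]
  have hyL : IsPrimitiveRoot (y : L) (p ^ (n + e)) := IsPrimitiveRoot.coe_units_iff.2 hy
  have hcpos : 1 ≤ c ^ k := Nat.one_le_pow _ _ hc0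
  -- divisibility by `p ^ e`
  have hdvd : p ^ e ∣ c ^ k - 1 := by
    have h3 := hck (y ^ (p ^ n)) (by rw [← pow_mul, mul_comm, pow_mul, hy.pow_eq_one, one_pow])
    rw [Units.val_pow_eq_pow_val, h1 _ (by rw [← pow_mul, ← pow_add, hyL.pow_eq_one])] at h3
    have h4 : (y : L) ^ (p ^ n * (c ^ k - 1)) = 1 := by
      have h5 : (y : L) ^ (p ^ n) * (y : L) ^ (p ^ n * (c ^ k - 1)) = (y : L) ^ (p ^ n) * 1 := by
        rw [mul_one, ← pow_add, ← mul_one_add, Nat.add_sub_cancel' hcpos, pow_mul]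
        exact h3.symm
      exact mul_left_cancel₀ (pow_ne_zero _ y.ne_zero) h5
    have h6 := hyL.dvd_of_pow_eq_one _ h4
    rw [pow_add] at h6
    exact Nat.dvd_of_mul_dvd_mul_left (pow_pos hpp.pos n) h6
  obtain ⟨u, hu⟩ := hdvd
  refine ⟨u, by omega, ?_⟩
  refine Nat.Coprime.pow_right _ ?_
  rw [Nat.coprime_comm, Nat.Prime.coprime_iff_not_dvd hpp]
  rintro ⟨v, rfl⟩
  obtain ⟨z, hz, hne⟩ := h2
  apply hne
  have hz0 : z ≠ 0 := by
    rintro rfl
    rw [zero_pow (pow_pos hpp.pos _).ne'] at hz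
    exact zero_ne_one hz
  have h7 : Units.mk0 z hz0 ^ (p ^ (n + e)) = 1 := by
    apply Units.ext
    rw [Units.val_pow_eq_pow_val, Units.val_mk0, Units.val_one, show n + e = (e + 1) + (n - 1) by omega, pow_add,
      pow_mul, hz, one_pow]
  have h8 := hck _ h7
  rw [Units.val_mk0] at h8
  rw [h8, show c ^ k = 1 + p ^ (e + 1) * v by rw [pow_succ, mul_assoc]; omega, pow_add, pow_mul, hz, one_pow,
    pow_one, mul_one]

include hmono hE hfd hgal hrk hgen hun in
/-- **Theorem T.** -/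
theorem vanish [Algebra.IsSeparable K L] (hpK : (p : K) ≠ 0)
    (hroots : ∀ n : ℕ, ∃ ζ : L, IsPrimitiveRoot ζ (p ^ n))
    (hgenμ : IntermediateField.adjoin K {z : L | ∃ n : ℕ, z ^ (p ^ n) = 1} = ⊤)
    (hcd : Dix.CohDimLEAt (Spec (CommRingCat.of L)) p 1) (n : ℕ) (hn : 0 < n)
    (x : Ext (EtCoh.const (Spec (CommRingCat.of K)) ℤ) (EtCoh.const (Spec (CommRingCat.of K)) (ZMod (p ^ n))) 2) :
    ∃ (e : ℕ) (f : ZMod (p ^ n) →+ ZMod (p ^ (n + e))), f 1 = ((p ^ e : ℕ) : ZMod (p ^ (n + e))) ∧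
      x.comp (Ext.mk₀ (cmap _ f)) (add_zero 2) = 0 := by
  have hpp := hp.out
  let i : K →+* L := algebraMap K L
  let t : Spec (CommRingCat.of L) ⟶ Spec (CommRingCat.of K) := tt K L
  have : Algebra.IsAlgebraic K L := inferInstance
  have hint : IsIntegralHom (sp i) := by
    rw [IsIntegralHom.SpecMap_iff]
    exact algebraMap_isIntegral_iff.2 inferInstance
  have hpL : ∀ r : ℕ, ((p ^ r : ℕ) : L) ≠ 0 := by
    intro r
    rw [Nat.cast_pow]
    refine pow_ne_zero _ ?_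
    rw [← map_natCast (algebraMap K L)]
    exact fun h => hpK ((map_eq_zero _).1 h)
  -- roots of unity
  obtain ⟨ζ₀, hζ₀⟩ := hroots n
  obtain ⟨z, hz0, hz, hzp⟩ := Groth.Agent.Etbc.H231.CycloTower.exists_system (L := L) hpp hroots hn hζ₀
  have hzne : ∀ a, z a ≠ 0 := fun a => (hzp a).ne_zero (pow_pos hpp.pos _).ne'
  let zu : ℕ → Lˣ := fun a => Units.mk0 (z a) (hzne a)
  have hzu : ∀ a, IsPrimitiveRoot (zu a) (p ^ (n + a)) := fun a =>
    IsPrimitiveRoot.coe_units_iff.1 (by rw [Units.val_mk0]; exact hzp a)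
  -- the two sequences at level `n`
  let A := EtCoh.const (Spec (CommRingCat.of K)) (ZMod (p ^ n))
  let P := EtCoh.const (Spec (CommRingCat.of K)) ℤ
  let D := cyc E hmono σ hE hfd hgal hrk hgen hun hpp.pos n
  have hS := Groth.Agent.Sga4h.SigmaSeq.shortExact D A (killedBy_const_pow _)
  have hζn : IsPrimitiveRoot (zu 0) (p ^ n) := hzu 0
  have hK := kum_shortExact i hζn (hpL n)
  -- `x` comes from `w`
  have hkill : EtCoh.KilledBy (p ^ n) ((EtCoh.pull t).obj A) :=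
    Groth.Agent.Etcore.Torsion.killedBy_pull (p ^ n) t A (killedBy_const_pow _)
  have hP : Dix.IsPrimaryTorsion p ((EtCoh.pull t).obj A) :=
    Groth.Agent.Etbc.H231.CycTower.isPrimaryTorsion_of_killedBy hkill
  have hT : EtCoh.IsTorsion ((EtCoh.pull t).obj A) :=
    Groth.Agent.Etbc.H205.AlgExt.isTorsion_of_isPrimaryTorsion hpp.pos.ne' hP
  have key : Subsingleton (Ext P (AA t A) 2) :=
    (Groth.Agent.EtpbcA.CdExact.H_push_iff_of_isZero t _ (fun q =>
      Groth.Agent.Sga4A.EtSplit.isZero_Rpush t _ (q + 1) (Nat.succ_pos q)) 2).2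
      (hcd _ hP 2 (by norm_num))
  have key2 : Subsingleton (Ext P ((EtCoh.push t).obj (EtCoh.Gm (Spec (CommRingCat.of L)))) 1) :=
    (Groth.Agent.EtpbcA.CdExact.H_push_iff_of_isZero t _ (fun q =>
      Groth.Agent.Sga4A.EtSplit.isZero_Rpush t _ (q + 1) (Nat.succ_pos q)) 1).2
      (Groth.Agent.Sga4h.TameFieldK2.subsingleton_H1_Gm L)
  obtain ⟨w, hw⟩ := Ext.covariant_sequence_exact₁ P hS x (Subsingleton.elim (α := Ext P (AA t A) 2) _ _)
    (n₀ := 1) rfl
  obtain ⟨b', hb'⟩ := Ext.covariant_sequence_exact₁ P hK w (Subsingleton.elim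
    (α := Ext P ((EtCoh.push t).obj (EtCoh.Gm (Spec (CommRingCat.of L)))) 1) _ _) (n₀ := 0) rfl
  obtain ⟨b, rfl⟩ := (Ext.mk₀_bijective _ _).2 b'
  obtain ⟨xb, hxb⟩ := phi_surjective i (evl b 1)
  obtain ⟨a, ha⟩ := hun (xb : L)
  obtain ⟨e, he1, he2⟩ := exists_level_exp E σ hE hfd hgal hrk hgen hgenμ a
  -- level `N = n + e`
  let A' := EtCoh.const (Spec (CommRingCat.of K)) (ZMod (p ^ (n + e)))
  let D' := cyc E hmono σ hE hfd hgal hrk hgen hun hpp.pos (n + e)
  have hS' := Groth.Agent.Sga4h.SigmaSeq.shortExact D' A' (killedBy_const_pow _)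
  have hK' := kum_shortExact i (hzu e) (hpL (n + e))
  have h1N : 1 < p ^ (n + e) := Nat.one_lt_pow (by omega) hpp.one_lt
  obtain ⟨c, hc0, hc⟩ := exists_exp σ h1N (hzu e)
  obtain ⟨u, hu1, hu2⟩ := exponent σ hn (pow_pos hpp.pos a) hc0 (hzu e) hc he1 he2
  have hσi : ((σ : L →+* L)).comp i = i := by
    ext y
    exact σ.commutes y
  have hf0 : (p ^ n) • ((p ^ e : ℕ) : ZMod (p ^ (n + e))) = 0 := by
    rw [nsmul_eq_mul, ← Nat.cast_mul, ← pow_add]
    exact ZMod.natCast_self _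
  let f : ZMod (p ^ n) →+ ZMod (p ^ (n + e)) := ZMod.lift (p ^ n) ⟨zmultiplesHom _ ((p ^ e : ℕ) : ZMod (p ^ (n + e))),
    by simpa using hf0⟩
  have hf1 : f 1 = ((p ^ e : ℕ) : ZMod (p ^ (n + e))) := by
    have h3 := ZMod.lift_coe (p ^ n) (⟨zmultiplesHom _ ((p ^ e : ℕ) : ZMod (p ^ (n + e))), by simpa using hf0⟩ :
      { f : ℤ →+ ZMod (p ^ (n + e)) // f (p ^ n : ℕ) = 0 }) 1
    rw [Int.cast_one] at h3
    refine h3.trans ?_
    simp
  refine ⟨e, f, hf1, ?_⟩
  have hze : zu e ^ (p ^ e) = zu 0 := by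
    apply Units.ext
    rw [Units.val_pow_eq_pow_val, Units.val_mk0, Units.val_mk0]
    have := Groth.Agent.Etbc.H231.CycloTower.pow_sub hz (Nat.zero_le e)
    rwa [Nat.sub_zero] at this
  have haa : cmap _ f ≫ aa i (hzu e) = aa i hζn := cmap_aa i (hzu e) hζn f hf1 hze
  have hSg := gmTau_eigen i (σ : L →+* L) hσi c hc (aa i (hzu e))
  have htk := tau_kum (sp (σ : L →+* L)) (sp_comp i (σ : L →+* L) hσi) (aa i (hzu e))
  rw [hSg] at htk
  have hb : (fun y => y ≫ gmTau (sp (σ : L →+* L)) (sp_comp i (σ : L →+* L) hσi))^[p ^ a] b = b := by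
    apply hom_ext_int
    rw [iter_gmTau i (σ : L →+* L) hσi b xb hxb, ← hxb]
    congr 1
    apply Units.ext
    rw [iter_map]
    exact pow_fix E σ hE hfd hgal hrk hgen a _ ha
  have final := ExtTwist.vanish (P := P) ((EtCoh.pullPushAdj t).unit.app A) ((EtCoh.pullPushAdj t).unit.app A')
    (tau A D.σ D.hσt) (tau A' D'.σ D'.hσt) _ _ hS hS' (cmap _ f) (AAmap (cmap _ f) t)
    ((EtCoh.pullPushAdj t).unit.naturality (cmap _ f))
    (tau_naturality D.σ D.hσt (cmap _ f)) (kum (sp i) (aa i hζn)) (kum (sp i) (aa i (hzu e)))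
    (p ^ n) (p ^ (n + e)) (p ^ e) (pow_add _ _ _) _ _ hK hK' (by
      rw [← haa]
      change (EtCoh.push t).map _ ≫ (EtCoh.push t).map _ = (EtCoh.push t).map _
      rw [← Functor.map_comp, Adjunction.homEquiv_naturality_left_symm])
    (gmTau (sp (σ : L →+* L)) (sp_comp i (σ : L →+* L) hσi)) c (by
      refine Eq.trans ?_ htk
      rw [Preadditive.nsmul_comp]
      have h9 : kum (sp i) (c • aa i (hzu e)) = c • kum (sp i) (aa i (hzu e)) := by
        rw [kum, kum, Adjunction.homEquiv_counit, Adjunction.homEquiv_counit, Functor.map_nsmul,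
          Preadditive.nsmul_comp, Functor.map_nsmul]
      rw [h9, Preadditive.comp_nsmul]
      rfl) b (p ^ a) hb u hu1 hu2
  rw [← hw, ← hb']
  exact final

end Tower

end Groth.Agent.Dix.K109.ScdTower
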