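import Groth.Prelude.Def_EtLim
import Groth.Agent.Sga4h.FamTau

/-!
# Kummer maps `c_* c^* F ⟶ c_* G_m` and the functoriality in `c`

* `gmTau d h : c_* G_m ⟶ c'_* G_m` for `d ≫ c = c'`;
* `kum a : c_* c^* F ⟶ c_* G_m` for `a : F ⟶ c_* G_m`;
* `tau_kum` : `tau F d h ≫ kum (a ≫ gmTau d h) = kum a ≫ gmTau d h`;
* `tau_naturality` : naturality of `tau F d h` in `F`.
-/

set_option autoImplicit false
set_option backward.isDefEq.respectTransparency.types false
universe u

open CategoryTheory CategoryTheory.Limits AlgebraicGeometry Opposite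

namespace Groth.Agent.Dix.K109.Semilin

open Groth.Agent.EtpbcB.Big Groth.Agent.Sga4h.FamAdd Groth.Agent.Sga4h.FamTau

theorem et_w' {X : Scheme.{u}} {V W : X.Etale} (g : W ⟶ V) {T : Scheme.{u}} (k : X ⟶ T) :
    g.left ≫ V.hom ≫ k = W.hom ≫ k := by rw [← Category.assoc, et_w]

/-- Sections which agree on a cover are equal. -/
theorem sect_ext_cover {X : Scheme.{u}} (G : EtCoh.Ab X) {V : X.Etale} (x y : EtCoh.sect G V)
    (h : ∀ t : V.left, ∃ (W : X.Etale) (a : W ⟶ V) (w : W.left), a.left w = t ∧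
      G.obj.map a.op x = G.obj.map a.op y) : x = y := by
  choose W a w hw e using h
  have key := Groth.Agent.Etbase.EtGlue.existsUnique_glue G a (by
    ext t
    simp only [Set.mem_iUnion, Set.mem_univ, iff_true]
    exact ⟨t, w t, hw t⟩) (fun t => G.obj.map (a t).op x) (fun i j T gi gj e => by
      rw [et_map_map, et_map_map, e])
  exact key.unique (fun t => rfl) (fun t => (e t).symm)

section

variable {X Z Z' : Scheme.{u}} {c : Z ⟶ X} {c' : Z' ⟶ X} (d : Z' ⟶ Z) (h : d ≫ c = c')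

/-- The base change morphisms as a natural transformation. -/
noncomputable def mNat : EtCoh.bc c' ⋙ (Scheme.Etale.forget Z' ⋙ Over.forget Z') ⟶
    EtCoh.bc c ⋙ (Scheme.Etale.forget Z ⋙ Over.forget Z) where
  app V := (mV d h V : ((EtCoh.bc c').obj V).left ⟶ ((EtCoh.bc c).obj V).left)
  naturality V V' g := (mV_bcmap d h g).symm

/-- Pullback of units along `V ×_X Z' ⟶ V ×_X Z`. -/
noncomputable def gmTau : (EtCoh.push c).obj (EtCoh.Gm Z) ⟶ (EtCoh.push c').obj (EtCoh.Gm Z') :=
  ObjectProperty.homMk (Functor.whiskerRight (NatTrans.op (mNat d h)) EtCoh.ΓUnits)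

theorem gmTau_app {V : X.Etale} (s : EtCoh.sect ((EtCoh.push c).obj (EtCoh.Gm Z)) V) :
    (gmTau d h).hom.app (op V) s = EtCoh.ΓUnits.map (mV d h V).op s := rfl

variable {F : EtCoh.Ab X}

/-- The Kummer map attached to `a : F ⟶ c_* G_m`. -/
noncomputable def kum (c : Z ⟶ X) (a : F ⟶ (EtCoh.push c).obj (EtCoh.Gm Z)) :
    AA c F ⟶ (EtCoh.push c).obj (EtCoh.Gm Z) :=
  (EtCoh.push c).map (((EtCoh.pullPushAdj c).homEquiv F (EtCoh.Gm Z)).symm a)

theorem flat_unit (a : F ⟶ (EtCoh.push c).obj (EtCoh.Gm Z)) {V : X.Etale} (s : EtCoh.sect F V) :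
    (((EtCoh.pullPushAdj c).homEquiv F (EtCoh.Gm Z)).symm a).hom.app (op ((EtCoh.bc c).obj V))
      (unitSec c F V s) = a.hom.app (op V) s := by
  have h1 := ((EtCoh.pullPushAdj c).homEquiv F (EtCoh.Gm Z)).apply_symm_apply a
  rw [Adjunction.homEquiv_unit] at h1
  exact ConcreteCategory.congr_hom (congrArg (fun k => k.hom.app (op V)) h1) s

theorem unit_kum (a : F ⟶ (EtCoh.push c).obj (EtCoh.Gm Z)) :
    (EtCoh.pullPushAdj c).unit.app F ≫ kum c a = a := by
  have h1 := ((EtCoh.pullPushAdj c).homEquiv F (EtCoh.Gm Z)).apply_symm_apply a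
  rwa [Adjunction.homEquiv_unit] at h1

/-- Two units which agree on an étale cover are equal. -/
theorem gm_ext {T : Scheme.{u}} (x y : EtCoh.ΓUnits.obj (op T))
    (h : ∀ t : T, ∃ (W : Scheme.{u}) (a : W ⟶ T) (_ : Etale a) (w : W), a w = t ∧
      EtCoh.ΓUnits.map a.op x = EtCoh.ΓUnits.map a.op y) : x = y :=
  sect_ext_cover (V := EtCoh.top T) (EtCoh.Gm T) x y fun t => by
    obtain ⟨W, a, ha, w, hw, e⟩ := h t
    exact ⟨Scheme.Etale.mk a, etHom a (Category.comp_id _), w, hw, e⟩

section Loc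

variable {V V' : X.Etale} {W : Z.Etale} (g : W ⟶ (EtCoh.bc c).obj V) (b : W ⟶ (EtCoh.bc c).obj V')

/-- The pulled back local chart. -/
noncomputable def Wp : Z'.Etale :=
  Scheme.Etale.mk (pullback.snd g.left (mV d h V) ≫ ((EtCoh.bc c').obj V).hom)

/-- The projection to `W`. -/
noncomputable def ep : (Wp d h g).left ⟶ W.left := pullback.fst g.left (mV d h V)

/-- The pulled back chart map. -/
noncomputable def gp : Wp d h g ⟶ (EtCoh.bc c').obj V := etHom (pullback.snd g.left (mV d h V)) rfl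

theorem ep_comm : ep d h g ≫ g.left = (gp d h g).left ≫ mV d h V := pullback.condition

theorem bp_aux : (ep d h g ≫ b.left ≫ bcFst c V') ≫ V'.hom = (Wp d h g).hom ≫ c' := by
  have h1 : W.hom ≫ c = g.left ≫ ((EtCoh.bc c).obj V).hom ≫ c := by rw [et_w']
  have h2 := ep_comm d h g
  have h3 : (Wp d h g).hom ≫ c' = (gp d h g).left ≫ ((EtCoh.bc c').obj V).hom ≫ c' :=
    (et_w' (gp d h g) c').symm
  rw [Category.assoc, Category.assoc, bc_condition, et_w', h1, reassoc_of% h2, mV_hom_assoc, h, h3]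

/-- The second chart map. -/
noncomputable def bp : Wp d h g ⟶ (EtCoh.bc c').obj V' :=
  etHom (pullback.lift (ep d h g ≫ b.left ≫ bcFst c V') (Wp d h g).hom (bp_aux d h g b))
    (pullback.lift_snd _ _ _)

theorem bp_fst : (bp d h g b).left ≫ bcFst c' V' = ep d h g ≫ b.left ≫ bcFst c V' :=
  pullback.lift_fst _ _ _

theorem ep_hom : ep d h g ≫ W.hom = (Wp d h g).hom ≫ d := by
  have h2 := ep_comm d h g
  have h3 : (Wp d h g).hom ≫ d = (gp d h g).left ≫ ((EtCoh.bc c').obj V).hom ≫ d :=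
    (et_w' (gp d h g) d).symm
  rw [← et_w g, reassoc_of% h2, mV_hom, h3]

theorem bp_mV : (bp d h g b).left ≫ mV d h V' = ep d h g ≫ b.left := by
  apply hom_ext_bc
  · rw [Category.assoc, mV_fst, bp_fst]
    exact (Category.assoc _ _ _).symm
  · rw [Category.assoc, mV_hom, et_w', ← ep_hom]
    exact ((Category.assoc (ep d h g) b.left _).trans (congrArg (ep d h g ≫ ·) (et_w b))).symm

theorem exists_wp (y : ((EtCoh.bc c').obj V).left) (w : W.left) (hw : g.left w = mV d h V y) :
    ∃ w' : (Wp d h g).left, (gp d h g).left w' = y := by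
  obtain ⟨w', hw1, hw2⟩ := Scheme.Pullback.exists_preimage_pullback (f := g.left) (g := mV d h V) w y hw
  exact ⟨w', hw2⟩

/-- The restriction of `tau s` to the pulled back chart. -/
theorem tau_res (s : EtCoh.sect (AA c F) V) (σ : EtCoh.sect F V')
    (hs : ((EtCoh.pull c).obj F).obj.map g.op s = ((EtCoh.pull c).obj F).obj.map b.op (unitSec c F V' σ)) :
    ((EtCoh.pull c').obj F).obj.map (gp d h g).op ((tau F d h).hom.app (op V) s) =
      ((EtCoh.pull c').obj F).obj.map (bp d h g b).op (unitSec c' F V' σ) := by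
  apply val_ext c' F
  have h1 := vv_tau F d h s
  rw [vv_apply] at h1
  have h3 := congrArg (val c F) hs
  rw [val_res, val_res, val_unit] at h3
  rw [val_res, val_res, val_unit]
  refine (congrArg (fun v => Fam.res v (gp d h g).left _) h1).trans ?_
  rw [Fam.res_res, Fam.res_res]
  have h4 : (vv c F V s).res ((gp d h g).left ≫ mV d h V) (by
      rw [Category.assoc, mV_w]
      exact et_w' (gp d h g) c' : ((gp d h g).left ≫ mV d h V) ≫ pc c V = (Wp d h g).hom ≫ c') =
      ((val c F s).res g.left (by rw [← Category.assoc, et_w])).res (ep d h g) (by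
        rw [← Category.assoc, ep_hom, Category.assoc, h]) := by
    rw [Fam.res_res]
    exact Fam.res_congr _ _ (ep_comm d h g).symm
  refine Eq.trans h4 ?_
  rw [h3, Fam.res_res, Fam.res_res]
  exact Fam.res_congr _ _ (bp_fst d h g b).symm

end Loc

theorem ΓUnits_map_map {T1 T2 T3 : Scheme.{u}} (f : T1 ⟶ T2) (k : T2 ⟶ T3) (x : EtCoh.ΓUnits.obj (op T3)) :
    EtCoh.ΓUnits.map f.op (EtCoh.ΓUnits.map k.op x) = EtCoh.ΓUnits.map (f ≫ k).op x := by
  rw [op_comp]
  exact (Functor.map_comp_apply EtCoh.ΓUnits k.op f.op x).symm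

theorem tau_kum (a : F ⟶ (EtCoh.push c).obj (EtCoh.Gm Z)) :
    tau F d h ≫ kum c' (a ≫ gmTau d h) = kum c a ≫ gmTau d h := by
  apply Sheaf.hom_ext
  ext V s
  induction V using Opposite.rec with | _ V
  set A := ((EtCoh.pullPushAdj c).homEquiv F (EtCoh.Gm Z)).symm a with hA
  set A' := ((EtCoh.pullPushAdj c').homEquiv F (EtCoh.Gm Z')).symm (a ≫ gmTau d h) with hA'
  change A'.hom.app (op ((EtCoh.bc c').obj V)) ((tau F d h).hom.app (op V) s) =
    EtCoh.ΓUnits.map (mV d h V).op (A.hom.app (op ((EtCoh.bc c).obj V)) s)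
  refine gm_ext _ _ fun y => ?_
  obtain ⟨V', σ, W, g, b, w, hw, hs⟩ := exists_locally_unit c F ((EtCoh.bc c).obj V) s (mV d h V y)
  obtain ⟨w', hw2⟩ := exists_wp d h g y w hw
  have hT := tau_res d h g b s σ hs
  have hcomm := ep_comm d h g
  have hπ : Etale (gp d h g).left := by
    change Etale (pullback.snd g.left (mV d h V))
    infer_instance
  refine ⟨_, (gp d h g).left, hπ, w', hw2, ?_⟩
  have e1 : EtCoh.ΓUnits.map (gp d h g).left.op (A'.hom.app (op ((EtCoh.bc c').obj V))
      ((tau F d h).hom.app (op V) s)) =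
      A'.hom.app (op (Wp d h g)) (((EtCoh.pull c').obj F).obj.map (gp d h g).op
        ((tau F d h).hom.app (op V) s)) :=
    (ConcreteCategory.congr_hom (A'.hom.naturality (gp d h g).op) _).symm
  have e2 : A'.hom.app (op (Wp d h g)) (((EtCoh.pull c').obj F).obj.map (bp d h g b).op
      (unitSec c' F V' σ)) =
      (EtCoh.Gm Z').obj.map (bp d h g b).op (A'.hom.app (op ((EtCoh.bc c').obj V')) (unitSec c' F V' σ)) :=
    ConcreteCategory.congr_hom (A'.hom.naturality (bp d h g b).op) _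
  have e3 := flat_unit (c := c') (a ≫ gmTau d h) σ
  have e4 := flat_unit (c := c) a σ
  have e5 : EtCoh.ΓUnits.map g.left.op (A.hom.app (op ((EtCoh.bc c).obj V)) s) =
      A.hom.app (op W) (((EtCoh.pull c).obj F).obj.map g.op s) :=
    (ConcreteCategory.congr_hom (A.hom.naturality g.op) _).symm
  have e6 : A.hom.app (op W) (((EtCoh.pull c).obj F).obj.map b.op (unitSec c F V' σ)) =
      (EtCoh.Gm Z).obj.map b.op (A.hom.app (op ((EtCoh.bc c).obj V')) (unitSec c F V' σ)) :=
    ConcreteCategory.congr_hom (A.hom.naturality b.op) _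
  refine e1.trans ((congrArg _ hT).trans (e2.trans ?_))
  refine (congrArg ((EtCoh.Gm Z').obj.map (bp d h g b).op) e3).trans ?_
  refine Eq.trans ?_ (ΓUnits_map_map (gp d h g).left (mV d h V) _).symm
  rw [← hcomm]
  refine Eq.trans ?_ (ΓUnits_map_map (ep d h g) g.left _)
  refine Eq.trans ?_ (congrArg _ (e5.trans ((congrArg _ hs).trans e6)).symm)
  refine Eq.trans ?_ (congrArg (fun z => EtCoh.ΓUnits.map (ep d h g).op ((EtCoh.Gm Z).obj.map b.op z)) e4.symm)
  change EtCoh.ΓUnits.map (bp d h g b).left.op (EtCoh.ΓUnits.map (mV d h V').op (a.hom.app (op V') σ)) =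
    EtCoh.ΓUnits.map (ep d h g).op (EtCoh.ΓUnits.map b.left.op (a.hom.app (op V') σ))
  rw [ΓUnits_map_map, ΓUnits_map_map]
  exact (congrArg (fun k : (Wp d h g).left ⟶ ((EtCoh.bc c).obj V').left =>
    EtCoh.ΓUnits.map k.op (a.hom.app (op V') σ)) (bp_mV d h g b))

variable {G : EtCoh.Ab X} (f : F ⟶ G)

/-- `c_* c^* f`. -/
noncomputable abbrev AAmap (c : Z ⟶ X) : AA c F ⟶ AA c G := (EtCoh.push c).map ((EtCoh.pull c).map f)

theorem pull_map_unitSec (c : Z ⟶ X) {V : X.Etale} (s : EtCoh.sect F V) :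
    ((EtCoh.pull c).map f).hom.app (op ((EtCoh.bc c).obj V)) (unitSec c F V s) =
      unitSec c G V (f.hom.app (op V) s) := by
  have h1 := (EtCoh.pullPushAdj c).unit.naturality f
  exact (ConcreteCategory.congr_hom (congrArg (fun k => k.hom.app (op V)) h1) s).symm

/-- `tau` is natural in the sheaf. -/
theorem tau_naturality : AAmap f c ≫ tau G d h = tau F d h ≫ AAmap f c' := by
  apply Sheaf.hom_ext
  ext V s
  induction V using Opposite.rec with | _ V
  change (tau G d h).hom.app (op V) (((EtCoh.pull c).map f).hom.app (op ((EtCoh.bc c).obj V)) s) =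
    ((EtCoh.pull c').map f).hom.app (op ((EtCoh.bc c').obj V)) ((tau F d h).hom.app (op V) s)
  refine sect_ext_cover ((EtCoh.pull c').obj G) (V := (EtCoh.bc c').obj V) _ _ fun y => ?_
  obtain ⟨V', σ, W, g, b, w, hw, hs⟩ := exists_locally_unit c F ((EtCoh.bc c).obj V) s (mV d h V y)
  obtain ⟨w', hw2⟩ := exists_wp d h g y w hw
  refine ⟨Wp d h g, gp d h g, w', hw2, ?_⟩
  have hs' : ((EtCoh.pull c).obj G).obj.map g.op (((EtCoh.pull c).map f).hom.app
      (op ((EtCoh.bc c).obj V)) s) = ((EtCoh.pull c).obj G).obj.map b.op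
        (unitSec c G V' (f.hom.app (op V') σ)) := by
    have e1 : ((EtCoh.pull c).obj G).obj.map g.op (((EtCoh.pull c).map f).hom.app
      (op ((EtCoh.bc c).obj V)) s) = ((EtCoh.pull c).map f).hom.app (op W)
        (((EtCoh.pull c).obj F).obj.map g.op s) :=
      (ConcreteCategory.congr_hom (((EtCoh.pull c).map f).hom.naturality g.op) _).symm
    have e2 : ((EtCoh.pull c).map f).hom.app (op W)
        (((EtCoh.pull c).obj F).obj.map b.op (unitSec c F V' σ)) =
        ((EtCoh.pull c).obj G).obj.map b.op (((EtCoh.pull c).map f).hom.app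
          (op ((EtCoh.bc c).obj V')) (unitSec c F V' σ)) :=
      ConcreteCategory.congr_hom (((EtCoh.pull c).map f).hom.naturality b.op) _
    rw [e1, hs, e2, pull_map_unitSec]
  have e3 : ((EtCoh.pull c').obj G).obj.map (gp d h g).op (((EtCoh.pull c').map f).hom.app
      (op ((EtCoh.bc c').obj V)) ((tau F d h).hom.app (op V) s)) =
      ((EtCoh.pull c').map f).hom.app (op (Wp d h g)) (((EtCoh.pull c').obj F).obj.map (gp d h g).op
        ((tau F d h).hom.app (op V) s)) :=
    (ConcreteCategory.congr_hom (((EtCoh.pull c').map f).hom.naturality (gp d h g).op) _).symm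
  have e4 : ((EtCoh.pull c').map f).hom.app (op (Wp d h g))
      (((EtCoh.pull c').obj F).obj.map (bp d h g b).op (unitSec c' F V' σ)) =
      ((EtCoh.pull c').obj G).obj.map (bp d h g b).op (((EtCoh.pull c').map f).hom.app
        (op ((EtCoh.bc c').obj V')) (unitSec c' F V' σ)) :=
    ConcreteCategory.congr_hom (((EtCoh.pull c').map f).hom.naturality (bp d h g b).op) _
  have h5 := tau_res d h g b s σ hs
  have h6 := tau_res d h g b _ (f.hom.app (op V') σ) hs'
  refine h6.trans (Eq.trans ?_ (e3.trans (congrArg _ h5)).symm)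
  rw [e4, pull_map_unitSec]

end

end Groth.Agent.Dix.K109.Semilin
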