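import Groth.Agent.Dix.K282.StkData
import Groth.Agent.CurvesA.EtFieldFin

/-!
# Sheaves on `Spec K` with finitely generated stalk are split by a finite extension

`fin_of_stk`: `Stk Ω F S` with `S` finitely generated implies `Fin' F`.
-/

set_option autoImplicit false
universe v u
open CategoryTheory CategoryTheory.Limits AlgebraicGeometry Opposite

namespace Groth.Agent.Dix.K109.StkFin

open Groth.Agent.Lefpen.H365.FieldPts Groth.Agent.Dix.K282.StkData
open Groth.Agent.CurvesA.EtFieldObj Groth.Agent.CurvesA.EtFieldFin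
open Groth.Agent.EtpbcB.Big (et_w)

variable {K Ω : Type u} [Field K] [Field Ω] [Algebra K Ω]
  {F : EtCoh.Ab (Spec (CommRingCat.of K))} {S : Type v} [AddCommGroup S] (E : Stk Ω F S)

theorem ev_injective {N : Type u} [Field N] [Algebra K N] [FiniteDimensional K N] [Algebra.IsSeparable K N]
    (r : Spec (CommRingCat.of Ω) ⟶ (etObj K N).left) (hr : r ≫ (etObj K N).hom = xi K Ω) :
    Function.Injective (E.ev (etObj K N) r hr) := by
  rw [injective_iff_map_eq_zero]
  intro s hs
  obtain ⟨V', k, r', hk, h0⟩ := E.inj (etObj K N) r hr s hs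
  have hne : Nonempty V'.left := ⟨r' default⟩
  apply Groth.Agent.CurvesA.EtFieldFin.map_injective F k
  exact h0.trans (map_zero (F.obj.map k.op).hom).symm

include E in
theorem torsion_free [Algebra.IsSeparable K Ω] [IsSepClosed Ω]
    (h : ∀ (n : ℕ) (s : S), n ≠ 0 → n • s = 0 → s = 0) (n : ℕ) (U : (Spec (CommRingCat.of K)).Etale)
    (s : EtCoh.sect F U) (hn : n ≠ 0) (hs : n • s = 0) : s = 0 := by
  apply E.eq_zero U s
  intro r hr
  apply h n _ hn
  rw [← map_nsmul, hs, map_zero]

variable [Algebra.IsSeparable K Ω] [IsSepClosed Ω]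

/-- The values on the finite subextensions. -/
noncomputable abbrev evL (L : FinSub K Ω) : EtCoh.sect F (VL K Ω L) →+ S := E.ev (VL K Ω L) (rL L) (rL_hom L)

omit [IsSepClosed Ω] in
theorem range_mono {L M : FinSub K Ω} (h : L ≤ M) : (evL E L).range ≤ (evL E M).range := by
  rintro _ ⟨s, rfl⟩
  exact ⟨F.obj.map (tr h).op s, E.nat (tr h) (rL M) (rL_hom M) (rL L) (rL_hom L) (rL_tr h) s⟩

omit [IsSepClosed Ω] in
theorem exists_mem_range (u : S) : ∃ L : FinSub K Ω, u ∈ (evL E L).range := by
  obtain ⟨V, k, r, hr, s, hk, hs⟩ := E.surj (EtCoh.top (Spec (CommRingCat.of K))) (xi K Ω)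
    (Category.comp_id _) u
  obtain ⟨L, a, ha⟩ := exists_fac V r hr
  exact ⟨L, F.obj.map a.op s, (E.nat a (rL L) (rL_hom L) r hr ha s).trans hs⟩

omit [IsSepClosed Ω] in
theorem exists_le_range (t : Finset S) : ∃ L : FinSub K Ω, ∀ u ∈ t, u ∈ (evL E L).range := by
  classical
  induction t using Finset.induction_on with
  | empty => exact ⟨Classical.arbitrary _, fun u hu => absurd hu (Finset.notMem_empty u)⟩
  | insert a t ha ih =>
    obtain ⟨L, hL⟩ := ih
    obtain ⟨M, hM⟩ := exists_mem_range E a
    obtain ⟨N, hLN, hMN⟩ := exists_ge_ge L M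
    refine ⟨N, fun u hu => ?_⟩
    rcases Finset.mem_insert.1 hu with rfl | hu
    · exact range_mono E hMN hM
    · exact range_mono E hLN (hL u hu)

omit [IsSepClosed Ω] in
theorem exists_surj [Module.Finite ℤ S] : ∃ L : FinSub K Ω, Function.Surjective (evL E L) := by
  obtain ⟨t, ht⟩ := (Module.finite_def (R := ℤ) (M := S)).1 inferInstance
  obtain ⟨L, hL⟩ := exists_le_range E t
  refine ⟨L, fun u => ?_⟩
  have h1 : Submodule.span ℤ (t : Set S) ≤ AddSubgroup.toIntSubmodule (evL E L).range :=
    Submodule.span_le.2 fun u hu => hL u hu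
  rw [ht] at h1
  exact h1 (Submodule.mem_top : u ∈ ⊤)

omit [Algebra.IsSeparable K Ω] in
theorem split_of_surj {N : Type u} [Field N] [Algebra K N] [FiniteDimensional K N] [Algebra.IsSeparable K N]
    (r : Spec (CommRingCat.of Ω) ⟶ (etObj K N).left) (hr : r ≫ (etObj K N).hom = xi K Ω)
    (h : Function.Surjective (E.ev (etObj K N) r hr)) : Split N F := by
  intro N' _ _ _ _ b a
  have hb : Etale b.left := by
    have h1 : Etale (etObj K N').hom := (etObj K N').prop
    have h2 : Etale (etObj K N).hom := (etObj K N).prop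
    have h3 : b.left ≫ (etObj K N).hom = (etObj K N').hom := et_w b
    rw [← h3] at h1
    exact MorphismProperty.of_postcomp (W := @Etale) (W' := @Etale) b.left (etObj K N).hom h2 h1
  obtain ⟨r', hr', -⟩ := Scheme.exists_fac_of_etale_of_isSepClosed b.left r
    (default : PrimeSpectrum N') (Subsingleton.elim (α := PrimeSpectrum N) _ _)
  have hr'' : r' ≫ (etObj K N').hom = xi K Ω := hom_of_fac b r' r hr hr'
  obtain ⟨a₀, ha₀⟩ := h (E.ev (etObj K N') r' hr'' a)
  refine ⟨a₀, ev_injective E r' hr'' ?_⟩
  rw [E.nat b r' hr'' r hr hr', ha₀]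

include E in
/-- **Sheaves with finitely generated stalk are split by a finite extension.** -/
theorem fin_of_stk [Module.Finite ℤ S] : Fin' F := by
  obtain ⟨L, hL⟩ := exists_surj E
  have hsc : IsSepClosure K Ω := ⟨inferInstance, inferInstance⟩
  have hgal : IsGalois K Ω := IsSepClosure.isGalois
  let M : IntermediateField K Ω := IntermediateField.normalClosure K L.1 Ω
  have h1 : L.1 ≤ M := IntermediateField.le_normalClosure L.1
  let M' : FinSub K Ω := ⟨M, inferInstance⟩
  have hM : Function.Surjective (evL E M') := fun u => by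
    obtain ⟨s, hs⟩ := hL u
    exact range_mono E (show L ≤ M' from h1) ⟨s, hs⟩
  have hgM : IsGalois K M := inferInstance
  have hsp : Split (K := K) M F := split_of_surj E (N := M) (rL M') (rL_hom M') hM
  refine ⟨M, inferInstance, inferInstance, inferInstance, hgM, hsp, ?_⟩
  have hinj : Function.Injective (E.ev (etObj K M) (rL M') (rL_hom M')) := ev_injective E (N := M) (rL M') (rL_hom M')
  exact Module.Finite.of_injective (E.ev (etObj K M) (rL M') (rL_hom M')).toIntLinearMap hinj

end Groth.Agent.Dix.K109.StkFin
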